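/-
Simple Zassenhaus groups whose point kernel is a non-abelian 2-group: elementary structure.

* `Setup` : the data; `n` odd, every involution fixes exactly one point
* `card_inv_U`, `swap_inv`, `E_cyclic`, `E_trans` : the two-point stabiliser is cyclic, inverted by
  the swaps and regular on the involutions of the kernel
* `isSuzuki` : the kernel is a Suzuki 2-group; its centre `Z`
* `card_sq_one`, `card_roots` : counting square roots
-/
import Cfsg.Agent.Lib.Zassenhaus.FixTwo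
import Cfsg.Agent.Lib.Zassenhaus.Basic
import Cfsg.Agent.S1137
import Cfsg.Agent.S1138
import Cfsg.Agent.EqLemmas

set_option autoImplicit false
set_option linter.style.haveILetI false

open MulAction Cfsg.Agent.Zassenhaus

namespace Cfsg.Agent.SuzukiZass

/-- A simple Zassenhaus group with a non-abelian `2`-group as point kernel. -/
structure Setup (G Ω : Type*) [Group G] [Finite G] [MulAction G Ω] [Finite Ω] where
  hZ : Cfsg.IsZassenhausGroup G Ω
  a : Ω
  b : Ω
  hab : a ≠ b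
  U : Subgroup G
  hUa : U ≤ stabilizer G a
  hUn : ∀ t ∈ stabilizer G a, ∀ u ∈ U, t * u * t⁻¹ ∈ U
  hUcard : Nat.card U = Nat.card Ω - 1
  hfix : ∀ u ∈ U, u ≠ 1 → ∀ c : Ω, u • c = c → c = a
  hU2 : IsPGroup 2 U
  hna : ∃ u ∈ U, ∃ v ∈ U, u * v ≠ v * u

namespace Setup

variable {G Ω : Type*} [Group G] [Finite G] [MulAction G Ω] [Finite Ω] (S : Setup G Ω)

include S

/-- The two-point stabiliser. -/
def E : Subgroup G := stabilizer G S.a ⊓ stabilizer G S.b

/-- The order of the two-point stabiliser. -/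
noncomputable def e : ℕ := Nat.card S.E

/-- The order of the point kernel. -/
noncomputable def h : ℕ := Nat.card S.U

theorem card_Ω : Nat.card Ω = S.h + 1 := by
  have := three_le_card S.hZ
  rw [h, S.hUcard]; omega

theorem two_le_h : 2 ≤ S.h := by
  have := three_le_card S.hZ
  rw [h, S.hUcard]; omega

theorem even_h : Even S.h := by
  obtain ⟨k, hk⟩ := S.hU2.exists_card_eq
  have h2 := S.two_le_h
  rw [h] at h2 ⊢
  rw [hk] at h2 ⊢
  rcases k with _ | k
  · simp at h2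
  · exact (Nat.even_pow).2 ⟨even_two, by omega⟩

theorem mem_U_iff {g : G} : g ∈ S.U ↔ g • S.a = S.a ∧ (g = 1 ∨ ∀ c : Ω, g • c = c → c = S.a) :=
  Set.ext_iff.1 (coe_eq_pointKernel S.hZ S.U S.hUa S.hUcard S.hfix) g

theorem smul_a {u : G} (hu : u ∈ S.U) : u • S.a = S.a := S.hUa hu

theorem smul_a_of_conj {g u : G} (hu : u ∈ S.U) (hu1 : u ≠ 1) (hg : g * u * g⁻¹ ∈ S.U) :
    g • S.a = S.a := by
  refine S.hfix _ hg (fun e => hu1 (by simpa [mul_inv_eq_one] using e)) _ ?_
  rw [mul_smul, mul_smul, inv_smul_smul, S.smul_a hu]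

theorem mem_U_of_commute {g u : G} (hu : u ∈ S.U) (hu1 : u ≠ 1) (hgu : g * u = u * g) : g ∈ S.U := by
  have hga : g • S.a = S.a :=
    S.smul_a_of_conj hu hu1 (by rwa [hgu, mul_inv_cancel_right])
  refine S.mem_U_iff.2 ⟨hga, ?_⟩
  by_cases hg1 : g = 1
  · exact Or.inl hg1
  right
  intro c hc
  by_contra hca
  have h2 : g • (u • c) = u • c := by rw [← mul_smul, hgu, mul_smul, hc]
  rcases eq_left_or_eq_right S.hZ hg1 (Ne.symm hca) hga hc h2 with h | h
  · exact hca (smul_left_cancel u (h.trans (S.smul_a hu).symm))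
  · exact hca (S.hfix _ hu hu1 c h)

theorem e_pos : 0 < S.e := Nat.card_pos

theorem e_dvd : S.e ∣ S.h - 1 := by
  have := card_pair_dvd_sub_two S.hZ S.hab
  rwa [S.card_Ω, show S.h + 1 - 2 = S.h - 1 by omega] at this

theorem odd_e : Odd S.e := by
  refine Odd.of_dvd_nat ?_ S.e_dvd
  exact Nat.Even.sub_odd (by have := S.two_le_h; omega) S.even_h odd_one

theorem three_le_e : 3 ≤ S.e := by
  obtain ⟨x, hx1, hxa, hxb⟩ := exists_fix_pair S.hZ S.hab
  have : Nontrivial ↥S.E := ⟨⟨⟨x, hxa, hxb⟩, 1, fun e => hx1 (congrArg Subtype.val e)⟩⟩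
  have h1 : 1 < S.e := Finite.one_lt_card
  obtain ⟨k, hk⟩ := S.odd_e
  omega

theorem exists_unique_fix {t : G} (ht : orderOf t = 2) :
    ∃ c : Ω, t • c = c ∧ ∀ d : Ω, t • d = d → d = c := by
  have htt : t * t = 1 := by
    have := pow_orderOf_eq_one t
    rwa [ht, pow_two] at this
  have ht1 : t ≠ 1 := fun h => by simp [h] at ht
  have h1 : Nat.card (fixedBy Ω t) = 1 := by
    have h2 := card_fixedBy_le_two S.hZ ht1
    have h3 := card_fixedBy_modEq (Ω := Ω) htt
    rw [S.card_Ω, Nat.ModEq] at h3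
    obtain ⟨j, hj⟩ := S.even_h
    omega
  obtain ⟨hsub, ⟨c, hc⟩⟩ := Nat.card_eq_one_iff_unique.1 h1
  exact ⟨c, hc, fun d hd => congrArg Subtype.val (@Subsingleton.elim _ hsub ⟨d, hd⟩ ⟨c, hc⟩)⟩

theorem inv_mem_U {t : G} (ht : orderOf t = 2) (hta : t • S.a = S.a) : t ∈ S.U := by
  obtain ⟨c, -, hc⟩ := S.exists_unique_fix ht
  exact S.mem_U_iff.2 ⟨hta, Or.inr fun d hd => (hc d hd).trans (hc S.a hta).symm⟩

theorem exists_inv_U : ∃ t ∈ S.U, orderOf t = 2 := by
  haveI := Fact.mk Nat.prime_two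
  obtain ⟨t, ht⟩ := exists_prime_orderOf_dvd_card' (G := S.U) 2 S.even_h.two_dvd
  exact ⟨t, t.2, (Subgroup.orderOf_coe t).trans ht⟩

/-- Involutions fixing `c`. -/
def invFix (_S : Setup G Ω) (c : Ω) : Set G := {t | orderOf t = 2 ∧ t • c = c}

/-- The number of involutions of the kernel. -/
noncomputable def i : ℕ := Nat.card (S.invFix S.a)

theorem card_invFix (c : Ω) : Nat.card (S.invFix c) = S.i := by
  haveI := isPretransitive S.hZ
  obtain ⟨g, rfl⟩ := exists_smul_eq G S.a c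
  refine (Nat.card_congr ((MulAut.conj g).toEquiv.subtypeEquiv fun t => ?_)).symm
  change _ ↔ orderOf (g * t * g⁻¹) = 2 ∧ (g * t * g⁻¹) • g • S.a = g • S.a
  rw [show orderOf (g * t * g⁻¹) = orderOf t from MulEquiv.orderOf_eq (MulAut.conj g) t, mul_smul,
    mul_smul, inv_smul_smul, smul_left_cancel_iff]
  rfl

theorem card_involutions : Nat.card {t : G // orderOf t = 2} = (S.h + 1) * S.i := by
  classical
  have := Fintype.ofFinite Ω
  choose f hf hfu using fun t : {t : G // orderOf t = 2} => S.exists_unique_fix t.2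
  rw [Nat.card_congr (Equiv.sigmaFiberEquiv f).symm, Nat.card_sigma]
  have : ∀ c : Ω, Nat.card {t // f t = c} = S.i := by
    intro c
    rw [← S.card_invFix c]
    exact Nat.card_congr
      { toFun := fun t => ⟨t.1.1, t.1.2, by have h := hf t.1; rw [t.2] at h; exact h⟩
        invFun := fun t => ⟨⟨t.1, t.2.1⟩, (hfu ⟨t.1, t.2.1⟩ c t.2.2).symm⟩
        left_inv := fun t => rfl
        right_inv := fun t => rfl }
  rw [Finset.sum_congr rfl fun c _ => this c, Finset.sum_const, smul_eq_mul, Finset.card_univ,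
    ← Nat.card_eq_fintype_card, S.card_Ω]

/-- Involutions mapping `a` to `y`. -/
def invTo (y : Ω) : Set G := {t | orderOf t = 2 ∧ t • S.a = y}

theorem card_invTo {y : Ω} (hy : y ≠ S.a) : Nat.card (S.invTo y) = S.i := by
  classical
  have hconst : ∀ z : Ω, z ≠ S.a → Nat.card (S.invTo z) = Nat.card (S.invTo y) := by
    intro z hz
    obtain ⟨g, hga, hgy⟩ := exists_smul_pair S.hZ (Ne.symm hy) (Ne.symm hz)
    refine (Nat.card_congr ((MulAut.conj g).toEquiv.subtypeEquiv fun t => ?_)).symm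
    change _ ↔ orderOf (g * t * g⁻¹) = 2 ∧ (g * t * g⁻¹) • S.a = z
    rw [show orderOf (g * t * g⁻¹) = orderOf t from MulEquiv.orderOf_eq (MulAut.conj g) t, mul_smul,
      mul_smul, show g⁻¹ • S.a = S.a from inv_smul_eq_iff.2 hga.symm, ← hgy, smul_left_cancel_iff]
    rfl
  have := Fintype.ofFinite Ω
  have h1 : Nat.card {t : G // orderOf t = 2} = ∑ z : Ω, Nat.card (S.invTo z) := by
    rw [Nat.card_congr (Equiv.sigmaFiberEquiv fun t : {t : G // orderOf t = 2} => (t : G) • S.a).symm,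
      Nat.card_sigma]
    exact Finset.sum_congr rfl fun z _ => Nat.card_congr
      { toFun := fun t => ⟨t.1.1, t.1.2, t.2⟩
        invFun := fun t => ⟨⟨t.1, t.2.1⟩, t.2.2⟩
        left_inv := fun t => rfl
        right_inv := fun t => rfl }
  rw [S.card_involutions, ← Finset.add_sum_erase _ _ (Finset.mem_univ S.a),
    show S.invTo S.a = S.invFix S.a from rfl, ← i,
    Finset.sum_congr rfl fun z hz => hconst z (Finset.mem_erase.1 hz).1, Finset.sum_const, smul_eq_mul,
    Finset.card_erase_of_mem (Finset.mem_univ _), Finset.card_univ, ← Nat.card_eq_fintype_card,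
    S.card_Ω, Nat.add_sub_cancel] at h1
  have h2 := S.two_le_h
  refine (Nat.eq_of_mul_eq_mul_left (show 0 < S.h by omega) ?_).symm
  linarith

theorem E_fpf {k u : G} (hk : k ∈ S.E) (hu : u ∈ S.U) (hu1 : u ≠ 1) (hc : k * u = u * k) : k = 1 := by
  by_contra hk1
  exact S.hab (S.hfix k (S.mem_U_of_commute hu hu1 hc) hk1 S.b hk.2).symm

/-- Conjugation of `E` on the kernel. -/
def act : S.E →* MulAut S.U where
  toFun k :=
    { toFun := fun u => ⟨k * u * (k : G)⁻¹, S.hUn _ k.2.1 _ u.2⟩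
      invFun := fun u => ⟨(k : G)⁻¹ * u * k, by
        simpa using S.hUn _ (inv_mem k.2.1) _ u.2⟩
      left_inv := fun u => Subtype.ext (by simp [mul_assoc])
      right_inv := fun u => Subtype.ext (by simp [mul_assoc])
      map_mul' := fun u v => Subtype.ext (by simp [mul_assoc]) }
  map_one' := by ext u; simp
  map_mul' k l := by ext u; simp [mul_assoc]

@[simp] theorem act_apply (k : S.E) (u : S.U) : (S.act k u : G) = k * u * (k : G)⁻¹ := rfl

theorem act_eq {k l : S.E} {u : S.U} (hu : u ≠ 1) (h : S.act k u = S.act l u) : k = l := by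
  have h' : (k : G) * u * (k : G)⁻¹ = l * u * (l : G)⁻¹ := congrArg Subtype.val h
  have := S.E_fpf (l⁻¹ * k).2 u.2 (fun e => hu (Subtype.ext e)) (by
    simp only [Subgroup.coe_mul, Subgroup.coe_inv]
    calc (l : G)⁻¹ * k * u = (l : G)⁻¹ * (k * u * (k : G)⁻¹) * k := by group
      _ = u * ((l : G)⁻¹ * k) := by rw [h']; group)
  exact (inv_mul_eq_one.1 (Subtype.ext this)).symm

theorem e_le_i : S.e ≤ S.i := by
  obtain ⟨t, htU, ht⟩ := S.exists_inv_U
  refine Nat.card_le_card_of_injective (β := S.invFix S.a) (fun k : S.E => ⟨S.act k ⟨t, htU⟩, ?_, S.smul_a (S.act k ⟨t, htU⟩).2⟩) ?_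
  · rw [act_apply, ← ht]
    exact MulEquiv.orderOf_eq (MulAut.conj (k : G)) t
  · intro k l h
    exact S.act_eq (u := ⟨t, htU⟩) (fun e => by have h1 : t = 1 := congrArg Subtype.val e; simp [h1] at ht)
      (Subtype.ext (congrArg (fun x : S.invFix S.a => (x : G)) h))

theorem invTo_swap {s : G} (hs : s ∈ S.invTo S.b) : s • S.b = S.a := by
  have hss : s * s = 1 := by
    have := pow_orderOf_eq_one s
    rwa [hs.1, pow_two] at this
  rw [← hs.2, ← mul_smul, hss, one_smul]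

theorem exists_swap : ∃ s : G, s ∈ S.invTo S.b := by
  obtain ⟨s, hs, hsa, -⟩ := exists_involution_swap S.hZ S.hab
  exact ⟨s, hs, hsa⟩

theorem i_eq : S.i = S.e := by
  obtain ⟨s, hs⟩ := S.exists_swap
  refine le_antisymm ?_ S.e_le_i
  rw [← S.card_invTo S.hab.symm, e, E, ← card_swap hs.2 (S.invTo_swap hs)]
  exact Nat.card_le_card_of_injective (fun t => ⟨t.1, t.2.2, S.invTo_swap t.2⟩)
    (fun t t' h => Subtype.ext (congrArg (fun x : {g : G // g • S.a = S.b ∧ g • S.b = S.a} => x.1) h))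

theorem swap_inv {g : G} (hga : g • S.a = S.b) (hgb : g • S.b = S.a) : orderOf g = 2 := by
  obtain ⟨s, hs⟩ := S.exists_swap
  let f : S.invTo S.b → {g : G // g • S.a = S.b ∧ g • S.b = S.a} :=
    fun t => ⟨t.1, t.2.2, S.invTo_swap t.2⟩
  have hf : Function.Bijective f := (Nat.bijective_iff_injective_and_card f).2
    ⟨fun t t' h => Subtype.ext (congrArg (fun x => x.1) h), by
      rw [S.card_invTo S.hab.symm, card_swap hs.2 (S.invTo_swap hs), S.i_eq]; rfl⟩
  obtain ⟨t, ht⟩ := hf.2 ⟨g, hga, hgb⟩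
  have : (t : G) = g := congrArg Subtype.val ht
  exact this ▸ t.2.1

theorem inverts {s k : G} (hsa : s • S.a = S.b) (hsb : s • S.b = S.a) (hk : k ∈ S.E) :
    s * k * s⁻¹ = k⁻¹ := by
  have h1 := S.swap_inv hsa hsb
  have hka : k • S.a = S.a := hk.1
  have hkb : k • S.b = S.b := hk.2
  have h2 : orderOf (s * k) = 2 := S.swap_inv (by rw [mul_smul, hka, hsa]) (by rw [mul_smul, hkb, hsb])
  have e1 : s * s = 1 := by
    have := pow_orderOf_eq_one s
    rwa [h1, pow_two] at this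
  have e2 : s * k * (s * k) = 1 := by
    have := pow_orderOf_eq_one (s * k)
    rwa [h2, pow_two] at this
  rw [show s⁻¹ = s from inv_eq_of_mul_eq_one_right e1]
  exact eq_inv_of_mul_eq_one_left (by rwa [mul_assoc])

theorem E_comm {k l : G} (hk : k ∈ S.E) (hl : l ∈ S.E) : k * l = l * k := by
  obtain ⟨s, hs⟩ := S.exists_swap
  have hi := fun {x : G} (hx : x ∈ S.E) => S.inverts hs.2 (S.invTo_swap hs) hx
  have h1 : (k * l)⁻¹ = k⁻¹ * l⁻¹ := by
    rw [← hi (mul_mem hk hl), ← hi hk, ← hi hl]; group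
  have := congrArg (·⁻¹) h1
  simpa [mul_inv_rev] using this

theorem E_cyclic : IsCyclic S.E := by
  haveI : IsMulCommutative S.E := ⟨⟨fun k l => Subtype.ext (S.E_comm k.2 l.2)⟩⟩
  exact Frobenius.SmallCyclic.isCyclic_of_isMulCommutative (smallCyclic_pair S.hZ S.hab)

theorem mem_invFix_of {x : S.U} (hx : x ≠ 1) (hxx : x * x = 1) : (x : G) ∈ S.invFix S.a :=
  ⟨orderOf_eq_prime (by rw [pow_two]; exact congrArg Subtype.val hxx) (fun e => hx (Subtype.ext e)),
    S.smul_a x.2⟩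

theorem E_trans (x y : S.U) (hx : x ≠ 1) (hxx : x * x = 1) (hy : y ≠ 1) (hyy : y * y = 1) :
    ∃ k : S.E, S.act k x = y := by
  let f : S.E → S.invFix S.a := fun k => ⟨S.act k x, S.mem_invFix_of
    (fun e => hx ((S.act k).injective (e.trans (map_one _).symm)))
    (by rw [← map_mul, hxx, map_one])⟩
  have hf : Function.Bijective f := (Nat.bijective_iff_injective_and_card f).2
    ⟨fun k l h => S.act_eq hx (Subtype.ext (congrArg (fun z : S.invFix S.a => (z : G)) h)), S.i_eq.symm⟩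
  obtain ⟨k, hk⟩ := hf.2 ⟨y, S.mem_invFix_of hy hyy⟩
  exact ⟨k, Subtype.ext (congrArg (fun z : S.invFix S.a => (z : G)) hk)⟩

theorem isSuzuki : Cfsg.IsSuzukiTwoGroup S.U := by
  refine ⟨inferInstance, S.hU2, ?_, ?_, S.act.range, ?_, ?_⟩
  · obtain ⟨u, hu, v, hv, huv⟩ := S.hna
    exact ⟨⟨u, hu⟩, ⟨v, hv⟩, fun e => huv (congrArg Subtype.val e)⟩
  · obtain ⟨t, htU, ht⟩ := S.exists_inv_U
    have : Nontrivial S.E := Finite.one_lt_card_iff_nontrivial.1 (by have := S.three_le_e; rw [e] at this; omega)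
    obtain ⟨k, hk⟩ := exists_ne (1 : S.E)
    have htt : (⟨t, htU⟩ : S.U) * ⟨t, htU⟩ = 1 := by
      refine Subtype.ext ?_
      have := pow_orderOf_eq_one t
      rwa [ht, pow_two] at this
    have ht1 : (⟨t, htU⟩ : S.U) ≠ 1 := fun e => by
      have h1 : t = 1 := congrArg Subtype.val e
      simp [h1] at ht
    refine ⟨_, S.act k ⟨t, htU⟩, fun e => hk ?_, ht1, htt, fun e => ht1 ((S.act k).injective (e.trans (map_one _).symm)), by rw [← map_mul, htt, map_one]⟩
    exact S.act_eq ht1 (e.symm.trans (by rw [map_one]; rfl))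
  · haveI := S.E_cyclic
    exact isCyclic_of_surjective S.act.rangeRestrict S.act.rangeRestrict_surjective
  · intro x y hx hxx hy hyy
    obtain ⟨k, hk⟩ := S.E_trans x y hx hxx hy hyy
    refine ⟨⟨S.act k, k, rfl⟩, hk, ?_⟩
    rintro ⟨_, l, rfl⟩ hl
    exact Subtype.ext (congrArg S.act (S.act_eq hx (hl.trans hk.symm)))

/-- The centre of the kernel. -/
def Z : Subgroup G := (Subgroup.center S.U).map S.U.subtype

/-- The order of the centre of the kernel. -/
noncomputable def q : ℕ := S.e + 1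

theorem Z_le : S.Z ≤ S.U := Subgroup.map_subtype_le _

theorem mem_Z {g : G} : g ∈ S.Z ↔ g ∈ S.U ∧ g * g = 1 := by
  obtain ⟨h1, h2⟩ := S1137.result S.isSuzuki
  constructor
  · rintro ⟨x, hx, rfl⟩
    exact ⟨x.2, congrArg Subtype.val (h2 x hx)⟩
  · rintro ⟨hg, hgg⟩
    refine ⟨⟨g, hg⟩, ?_, rfl⟩
    by_cases h : (⟨g, hg⟩ : S.U) = 1
    · rw [h]; exact one_mem _
    · exact ((h1 _).1 ⟨h, Subtype.ext hgg⟩).1

theorem Z_central {z u : G} (hz : z ∈ S.Z) (hu : u ∈ S.U) : u * z = z * u := by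
  obtain ⟨x, hx, rfl⟩ := hz
  exact congrArg Subtype.val (Subgroup.mem_center_iff.1 hx ⟨u, hu⟩)

theorem orderOf_Z {z : G} (hz : z ∈ S.Z) (hz1 : z ≠ 1) : orderOf z = 2 :=
  orderOf_eq_prime (by rw [pow_two]; exact (S.mem_Z.1 hz).2) hz1

theorem card_Z_ne : Nat.card {z : G // z ∈ S.Z ∧ z ≠ 1} = S.e := by
  rw [← S.i_eq, i]
  refine Nat.card_congr
    { toFun := fun z => ⟨z.1, S.orderOf_Z z.2.1 z.2.2, S.smul_a (S.Z_le z.2.1)⟩
      invFun := fun t => ⟨t.1, S.mem_Z.2 ⟨S.inv_mem_U t.2.1 t.2.2, ?_⟩, ?_⟩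
      left_inv := fun z => rfl
      right_inv := fun t => rfl }
  · have := pow_orderOf_eq_one (t : G)
    rwa [t.2.1, pow_two] at this
  · intro e
    have := t.2.1
    simp [e] at this

theorem card_Z : Nat.card S.Z = S.q := by
  classical
  have := Fintype.ofFinite G
  rw [q, ← S.card_Z_ne, Nat.card_eq_fintype_card, Nat.card_eq_fintype_card, Fintype.card_subtype,
    Fintype.card_subtype]
  have : (Finset.univ.filter fun z : G => z ∈ S.Z ∧ z ≠ 1) = (Finset.univ.filter fun z : G => z ∈ S.Z).erase 1 := by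
    ext z; simp [and_comm]
  rw [this, Finset.card_erase_add_one]
  simp [S.Z.one_mem]

theorem sq_mem {u : G} (hu : u ∈ S.U) : u * u ∈ S.Z :=
  ⟨_, (S1138.result S.isSuzuki).1 ⟨u, hu⟩, rfl⟩

theorem comm_mem {u v : G} (hu : u ∈ S.U) (hv : v ∈ S.U) : u⁻¹ * v⁻¹ * u * v ∈ S.Z :=
  ⟨_, (S1138.result S.isSuzuki).2.1 ⟨u, hu⟩ ⟨v, hv⟩, rfl⟩

theorem card_cases : S.h = S.q ^ 2 ∨ S.h = S.q ^ 3 := by
  have h1 : Nat.card (Subgroup.center S.U) = S.q := by
    rw [← S.card_Z]
    exact Nat.card_congr (Subgroup.equivMapOfInjective _ _ S.U.subtype_injective).toEquiv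
  rw [h, ← h1]
  exact (S1138.result S.isSuzuki).2.2.1

theorem Z_trans {z w : G} (hz : z ∈ S.Z) (hz1 : z ≠ 1) (hw : w ∈ S.Z) (hw1 : w ≠ 1) :
    ∃ k ∈ S.E, k * z * k⁻¹ = w := by
  obtain ⟨k, hk⟩ := S.E_trans ⟨z, S.Z_le hz⟩ ⟨w, S.Z_le hw⟩ (fun e => hz1 (congrArg Subtype.val e))
    (Subtype.ext (S.mem_Z.1 hz).2) (fun e => hw1 (congrArg Subtype.val e)) (Subtype.ext (S.mem_Z.1 hw).2)
  exact ⟨k, k.2, congrArg Subtype.val hk⟩

theorem card_G : Nat.card G = (S.h + 1) * (S.h * S.e) := by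
  rw [card_eq S.hZ S.hab, S.card_Ω, Nat.add_sub_cancel]; rfl

theorem card_stab : Nat.card (stabilizer G S.a) = S.h * S.e := by
  rw [Zassenhaus.card_stab S.hZ S.hab, S.card_Ω, Nat.add_sub_cancel]; rfl

theorem E_le : S.E ≤ stabilizer G S.a := inf_le_left

theorem E_inf_U {g : G} (hgE : g ∈ S.E) (hgU : g ∈ S.U) : g = 1 := by
  by_contra h1
  exact S.hab (S.hfix g hgU h1 S.b hgE.2).symm

/-- The point stabiliser as a product of two subgroups. -/
noncomputable def stabEquiv : S.E × S.U ≃ stabilizer G S.a :=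
  Equiv.ofBijective (fun p => ⟨(p.1 : G) * p.2, mul_mem (S.E_le p.1.2) (S.hUa p.2.2)⟩)
    ((Nat.bijective_iff_injective_and_card _).2 ⟨fun p p' h => by
      have h' : (p.1 : G) * p.2 = p'.1 * p'.2 := congrArg Subtype.val h
      have e1 : (p'.1 : G)⁻¹ * p.1 = p'.2 * (p.2 : G)⁻¹ := by
        calc (p'.1 : G)⁻¹ * p.1 = (p'.1 : G)⁻¹ * (p.1 * p.2) * (p.2 : G)⁻¹ := by group
          _ = p'.2 * (p.2 : G)⁻¹ := by rw [h']; group
      have e2 := S.E_inf_U (mul_mem (inv_mem p'.1.2) p.1.2) (e1 ▸ mul_mem p'.2.2 (inv_mem p.2.2))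
      exact Prod.ext (Subtype.ext (inv_mul_eq_one.1 e2).symm)
        (Subtype.ext (mul_inv_eq_one.1 (e1.symm.trans e2)).symm),
      by rw [Nat.card_prod, S.card_stab, mul_comm]; rfl⟩)

theorem stabEquiv_apply (p : S.E × S.U) : (S.stabEquiv p : G) = p.1 * p.2 := rfl

theorem card_sq_one : Nat.card {g : G // g * g = 1} = 1 + (S.h + 1) * S.e := by
  classical
  have := Fintype.ofFinite G
  rw [← S.i_eq, ← S.card_involutions, Nat.card_eq_fintype_card, Nat.card_eq_fintype_card,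
    Fintype.card_subtype, Fintype.card_subtype]
  have : (Finset.univ.filter fun g : G => orderOf g = 2) = (Finset.univ.filter fun g : G => g * g = 1).erase 1 := by
    ext g
    simp only [Finset.mem_filter, Finset.mem_univ, true_and, Finset.mem_erase]
    rw [← pow_two]
    exact ⟨fun h => ⟨fun e => by simp [e] at h, h ▸ pow_orderOf_eq_one g⟩, fun h => orderOf_eq_prime h.2 h.1⟩
  rw [this, add_comm, Finset.card_erase_add_one]
  simp

theorem root_mem {g : G} (hg : g * g ∈ S.U) (hg1 : g * g ≠ 1) : g ∈ S.U :=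
  S.mem_U_of_commute hg hg1 (mul_assoc g g g).symm

theorem no_roots {u : G} (hu : u ∈ S.U) (huZ : u ∉ S.Z) : ∀ g : G, g * g ≠ u := by
  intro g hg
  refine huZ (hg ▸ S.sq_mem (S.root_mem (hg ▸ hu) fun e => huZ ?_))
  rw [← hg, e]; exact one_mem _

theorem card_roots {z : G} (hz : z ∈ S.Z) (hz1 : z ≠ 1) :
    S.e * Nat.card {g : G // g * g = z} = S.h - S.q := by
  classical
  have := Fintype.ofFinite G
  let A : Finset G := Finset.univ.filter fun u => u ∈ S.U ∧ u ∉ S.Z
  let B : Finset G := Finset.univ.filter fun w => w ∈ S.Z ∧ w ≠ 1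
  have hmap : ∀ u ∈ A, u * u ∈ B := by
    intro u hu
    simp only [A, B, Finset.mem_filter, Finset.mem_univ, true_and] at hu ⊢
    exact ⟨S.sq_mem hu.1, fun e => hu.2 (S.mem_Z.2 ⟨hu.1, e⟩)⟩
  have hfib : ∀ w ∈ B, (A.filter fun u => u * u = w).card = Nat.card {g : G // g * g = z} := by
    intro w hw
    simp only [B, Finset.mem_filter, Finset.mem_univ, true_and] at hw
    obtain ⟨k, hk, hkz⟩ := S.Z_trans hz hz1 hw.1 hw.2
    have e1 : (A.filter fun u => u * u = w) = Finset.univ.filter fun g => g * g = w := by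
      ext g
      simp only [A, Finset.mem_filter, Finset.mem_univ, true_and]
      refine ⟨fun h => h.2, fun h => ⟨⟨S.root_mem (h ▸ S.Z_le hw.1) (h ▸ hw.2), fun hgZ => hw.2 ?_⟩, h⟩⟩
      rw [← h]; exact (S.mem_Z.1 hgZ).2
    rw [e1, ← Fintype.card_subtype, ← Nat.card_eq_fintype_card]
    refine (Nat.card_congr ((MulAut.conj k).toEquiv.subtypeEquiv fun g => ?_)).symm
    change _ ↔ (k * g * k⁻¹) * (k * g * k⁻¹) = w
    rw [show (k * g * k⁻¹) * (k * g * k⁻¹) = k * (g * g) * k⁻¹ by group, ← hkz, mul_left_inj, mul_right_inj]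
  have hc := Finset.card_eq_sum_card_fiberwise hmap
  rw [Finset.sum_congr rfl hfib, Finset.sum_const, smul_eq_mul] at hc
  have hB : B.card = S.e := by rw [← S.card_Z_ne, Nat.card_eq_fintype_card, Fintype.card_subtype]
  have hA : A.card = S.h - S.q := by
    rw [h, ← S.card_Z, Nat.card_eq_fintype_card, Nat.card_eq_fintype_card, Fintype.card_subtype,
      Fintype.card_subtype, ← Finset.card_sdiff_of_subset (fun x hx => by
        simp only [Finset.mem_filter, Finset.mem_univ, true_and] at hx ⊢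
        exact S.Z_le hx)]
    congr 1
    ext g; simp [A]
  rw [← hA, hc, hB]

theorem exists_q : ∃ m : ℕ, 2 ≤ m ∧ S.q = 2 ^ m := by
  haveI := Fact.mk Nat.prime_two
  obtain ⟨m, hm⟩ := IsPGroup.exists_card_eq (S.hU2.to_le S.Z_le)
  rw [S.card_Z] at hm
  refine ⟨m, ?_, hm⟩
  have h3 := S.three_le_e
  rw [q] at hm
  by_contra hlt
  interval_cases m <;> omega

end Setup

end Cfsg.Agent.SuzukiZass
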