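/-
Character tools for Zassenhaus groups of Suzuki type.

* `rootCount`, `indicator_cases` : the square-root count and its coefficients
* `sum_rootCount_mul`, `gram`, `sum_coeff_apply` : Frobenius reciprocity in summed form
* `ind_value`, `gram_lin` : functions induced from the kernel
* `sunflower` : a combinatorial lemma
-/
import Cfsg.Agent.Lib.SuzukiZass.Structure
import Cfsg.Agent.Lib.Char.Induced
import Cfsg.Agent.Lib.Char.Linear
import Cfsg.Agent.S0158
import Cfsg.Agent.EqLemmas

set_option autoImplicit false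
set_option linter.style.haveILetI false

open MulAction Cfsg Cfsg.Agent.Char
open scoped ComplexConjugate

namespace Cfsg.Agent.SuzukiZass

section general

variable {G : Type*} [Group G] [Fintype G]

/-- The number of square roots of `g`. -/
noncomputable def rootCount (g : G) : ℂ := (Nat.card {s : G // s * s = g} : ℂ)

theorem rootCount_class : IsClassFunction G (rootCount (G := G)) := by
  intro g x
  unfold rootCount
  congr 1
  refine (Nat.card_congr ((MulAut.conj x).toEquiv.subtypeEquiv fun s => ?_)).symm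
  change _ ↔ (x * s * x⁻¹) * (x * s * x⁻¹) = x * g * x⁻¹
  rw [show (x * s * x⁻¹) * (x * s * x⁻¹) = x * (s * s) * x⁻¹ by group, mul_left_inj, mul_right_inj]

theorem indicator_cases (χ : IrrCharacter G) :
    ∃ v : ℤ, classInner rootCount (χ : G → ℂ) = v ∧ (v = 0 ∨ v = 1 ∨ v = -1) := by
  classical
  obtain ⟨χ, n, ρ, hirr, rfl⟩ := χ
  have h : classInner (rootCount (G := G)) ρ.character =
      conj ((Nat.card G : ℂ)⁻¹ * ∑ s : G, ρ.character (s * s)) := by
    rw [classInner, map_mul, map_inv₀, Complex.conj_natCast, map_sum]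
    congr 1
    rw [← Finset.sum_fiberwise Finset.univ (fun s : G => s * s) (fun s => conj (ρ.character (s * s)))]
    refine Finset.sum_congr rfl fun g _ => ?_
    rw [Finset.sum_congr rfl (g := fun _ => conj (ρ.character g)) fun s hs => by rw [(Finset.mem_filter.1 hs).2],
      Finset.sum_const, nsmul_eq_mul, rootCount, Nat.card_eq_fintype_card, Fintype.card_subtype]
  haveI := hirr
  rcases (S0158.result ρ).1 with h1 | h1 | h1
  · exact ⟨0, by change classInner rootCount ρ.character = _; rw [h, h1]; simp, Or.inl rfl⟩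
  · exact ⟨1, by change classInner rootCount ρ.character = _; rw [h, h1]; simp, Or.inr (Or.inl rfl)⟩
  · exact ⟨-1, by change classInner rootCount ρ.character = _; rw [h, h1]; simp, Or.inr (Or.inr rfl)⟩

/-- The indicator coefficient. -/
noncomputable def ind2 (χ : IrrCharacter G) : ℤ := (indicator_cases χ).choose

theorem ind2_spec (χ : IrrCharacter G) : classInner rootCount (χ : G → ℂ) = ind2 χ :=
  (indicator_cases χ).choose_spec.1

theorem ind2_cases (χ : IrrCharacter G) : ind2 χ = 0 ∨ ind2 χ = 1 ∨ ind2 χ = -1 :=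
  (indicator_cases χ).choose_spec.2

variable (H : Subgroup G) [Fintype H] [Fintype (IrrCharacter G)]

theorem sum_ind2_apply (g : G) : ∑ χ : IrrCharacter G, (ind2 χ : ℂ) * (χ : G → ℂ) g = rootCount g := by
  conv_rhs => rw [classFunction_eq_sum (rootCount_class (G := G))]
  simp [Finset.sum_apply, ind2_spec]

theorem sum_coeff_apply (θ : H → ℂ) (g : G) :
    ∑ χ : IrrCharacter G, classInner θ (fun u : H => (χ : G → ℂ) u) * (χ : G → ℂ) g = indFun H θ g := by
  conv_rhs => rw [classFunction_eq_sum (indFun_isClassFunction H θ)]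
  simp only [Finset.sum_apply, Pi.smul_apply, smul_eq_mul]
  exact Finset.sum_congr rfl fun χ _ => by
    rw [frobenius_reciprocity H θ (IsIrrCharacter.isClassFunction χ.2)]

theorem sum_ind2_coeff (θ : H → ℂ) :
    ∑ χ : IrrCharacter G, (ind2 χ : ℂ) * conj (classInner θ (fun u : H => (χ : G → ℂ) u)) =
      classInner (fun u : H => rootCount (u : G)) θ := by
  rw [← frobenius_reciprocity' H θ rootCount_class, classInner_eq_sum rootCount_class]
  exact Finset.sum_congr rfl fun χ _ => by
    rw [frobenius_reciprocity H θ (IsIrrCharacter.isClassFunction χ.2), ind2_spec]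

theorem gram (θ θ' : H → ℂ) :
    ∑ χ : IrrCharacter G, classInner θ (fun u : H => (χ : G → ℂ) u) *
        conj (classInner θ' (fun u : H => (χ : G → ℂ) u)) =
      classInner θ (fun u : H => indFun H θ' u) := by
  rw [← frobenius_reciprocity H θ (indFun_isClassFunction H θ'), classInner_eq_sum (indFun_isClassFunction H θ)]
  exact Finset.sum_congr rfl fun χ _ => by
    rw [frobenius_reciprocity H θ (IsIrrCharacter.isClassFunction χ.2),
      frobenius_reciprocity H θ' (IsIrrCharacter.isClassFunction χ.2)]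

end general

section kernel

variable {G Ω : Type*} [Group G] [Fintype G] [MulAction G Ω] [Finite Ω] (S : Setup G Ω)

theorem index_U : (S.U.index : ℕ) = (S.h + 1) * S.e := by
  have h1 := S.U.card_mul_index
  rw [S.card_G, show Nat.card S.U = S.h from rfl] at h1
  have h2 := S.two_le_h
  refine Nat.eq_of_mul_eq_mul_left (show 0 < S.h by omega) ?_
  rw [h1]; ring

theorem ind_one {θ : S.U → ℂ} (h1 : θ 1 = 1) : indFun S.U θ 1 = ((S.h + 1) * S.e : ℕ) := by
  rw [indFun_one_apply, h1, mul_one, index_U S]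

theorem ind_value [Fintype S.E] [Fintype S.U] {θ : S.U → ℂ} (hθ : IsClassFunction S.U θ) {u : S.U}
    (hu : u ≠ 1) : indFun S.U θ u = ∑ k : S.E, θ (S.act k u) := by
  classical
  have hu1 : (u : G) ≠ 1 := fun e => hu (Subtype.ext e)
  have hout : ∀ x : G, x ∉ stabilizer G S.a → extendByZero S.U θ (x⁻¹ * u * x) = 0 := by
    intro x hx
    refine extendByZero_not_mem _ _ fun hm => hx ?_
    have := S.smul_a_of_conj (g := x⁻¹) u.2 hu1 (by rwa [inv_inv])
    exact (inv_smul_eq_iff.1 this).symm
  have hsum : ∑ x : G, extendByZero S.U θ (x⁻¹ * u * x) =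
      ∑ p : S.E × S.U, θ (S.act p.1⁻¹ u) := by
    rw [← Finset.sum_filter_add_sum_filter_not Finset.univ (· ∈ stabilizer G S.a),
      Finset.sum_eq_zero (s := Finset.univ.filter fun x => ¬ x ∈ stabilizer G S.a) fun x hx =>
        hout x (Finset.mem_filter.1 hx).2, add_zero,
      Finset.sum_subtype (p := (· ∈ stabilizer G S.a)) _ (fun x => by simp)
        (fun x => extendByZero S.U θ (x⁻¹ * u * x))]
    refine (Fintype.sum_equiv S.stabEquiv _ _ fun p => ?_).symm
    rw [S.stabEquiv_apply]
    have e1 : ((p.1 : G) * p.2)⁻¹ * u * ((p.1 : G) * p.2) = ((p.2⁻¹ * S.act p.1⁻¹ u * p.2 : S.U) : G) := by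
      simp only [Subgroup.coe_mul, Subgroup.coe_inv, Setup.act_apply, mul_inv_rev, inv_inv, mul_assoc]
    rw [e1, extendByZero_coe]
    simpa using (hθ (S.act p.1⁻¹ u) p.2⁻¹).symm
  unfold indFun
  rw [hsum, Fintype.sum_prod_type]
  simp only [Finset.sum_const, Finset.card_univ, nsmul_eq_mul]
  rw [← Finset.mul_sum, ← mul_assoc, ← Nat.card_eq_fintype_card,
    inv_mul_cancel₀ (Nat.cast_ne_zero.2 Nat.card_pos.ne'), one_mul]
  exact Fintype.sum_equiv (Equiv.inv S.E) _ _ fun k => rfl

theorem gram_lin [Fintype S.E] [Fintype S.U] [Fintype (IrrCharacter G)] {θ θ' : S.U → ℂ}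
    (hθ : IsIrrCharacter S.U θ) (hθ' : IsIrrCharacter S.U θ') (h1 : θ 1 = 1) (h1' : θ' 1 = 1) :
    ∑ χ : IrrCharacter G, classInner θ (fun u : S.U => (χ : G → ℂ) u) *
        conj (classInner θ' (fun u : S.U => (χ : G → ℂ) u)) =
      ((S.e + Nat.card {k : S.E // θ = fun u => θ' (S.act k u)} : ℕ) : ℂ) := by
  classical
  rw [gram]
  have hval : ∀ u : S.U, θ u * conj (indFun S.U θ' u) =
      (if u = 1 then (((S.h + 1) * S.e : ℕ) : ℂ) - (S.e : ℂ) else 0) +
        ∑ k : S.E, θ u * conj (θ' (S.act k u)) := by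
    intro u
    by_cases hu : u = 1
    · subst hu
      rw [OneMemClass.coe_one, ind_one S h1', if_pos rfl, h1]
      simp only [map_one, h1', map_natCast, one_mul, Finset.sum_const, Finset.card_univ, nsmul_eq_mul, mul_one,
        ← Nat.card_eq_fintype_card]
      rw [show Nat.card S.E = S.e from rfl, sub_add_cancel]
    · rw [if_neg hu, zero_add, ind_value S (IsIrrCharacter.isClassFunction hθ') hu, map_sum, Finset.mul_sum]
  rw [classInner, Finset.sum_congr rfl fun u _ => hval u, Finset.sum_add_distrib, Finset.sum_ite_eq',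
    if_pos (Finset.mem_univ _), Finset.sum_comm, mul_add, Finset.mul_sum]
  have hk : ∀ k : S.E, (Nat.card S.U : ℂ)⁻¹ * ∑ u : S.U, θ u * conj (θ' (S.act k u)) =
      if θ = (fun u => θ' (S.act k u)) then 1 else 0 :=
    fun k => classInner_irr hθ (IsIrrCharacter.comp_equiv hθ' (S.act k))
  rw [Finset.sum_congr rfl fun k _ => hk k, Finset.sum_boole, Nat.card_eq_fintype_card (α := {k : S.E // _}),
    Fintype.card_subtype, Nat.cast_add]
  congr 1
  have : (S.h : ℂ) ≠ 0 := Nat.cast_ne_zero.2 (by have := S.two_le_h; omega)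
  rw [show Nat.card S.U = S.h from rfl]
  push_cast
  field_simp
  ring

theorem eq_one_of_fixed {θ : S.U → ℂ} (hmul : ∀ u v, θ (u * v) = θ u * θ v) (h1 : θ 1 = 1) {k : S.E}
    (hk : k ≠ 1) (hfix : ∀ u, θ (S.act k u) = θ u) (u : S.U) : θ u = 1 := by
  have hinj : Function.Injective fun v : S.U => v⁻¹ * S.act k v := by
    intro v w hvw
    by_contra hne
    have h2 : S.act k (v * w⁻¹) = S.act 1 (v * w⁻¹) := by
      have h3 : S.act k v = v * (w⁻¹ * S.act k w) := by
        rw [← show v⁻¹ * S.act k v = w⁻¹ * S.act k w from hvw, mul_inv_cancel_left]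
      rw [map_one, MulAut.one_apply, map_mul, map_inv, h3]
      simp [mul_assoc]
    exact hk (S.act_eq (fun e => hne (mul_inv_eq_one.1 e)) h2)
  obtain ⟨v, rfl⟩ := Finite.injective_iff_surjective.1 hinj u
  rw [hmul, hfix, ← hmul, inv_mul_cancel, h1]

end kernel

theorem sunflower {α : Type*} [DecidableEq α] (𝒮 : Finset (Finset α)) (e : ℕ) (he : 1 ≤ e)
    (hc : 𝒮.card = e + 2) (h1 : ∀ A ∈ 𝒮, A.card = e + 1)
    (h2 : ∀ A ∈ 𝒮, ∀ B ∈ 𝒮, A ≠ B → (A ∩ B).card = e) (f : α → ℕ) (hf : ∀ A ∈ 𝒮, ∑ x ∈ A, f x = e) :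
    ∃ K : Finset α, K.card = e ∧ ∀ A ∈ 𝒮, K ⊆ A := by
  obtain ⟨A, hA, B, hB, hAB⟩ := Finset.one_lt_card.1 (show 1 < 𝒮.card by omega)
  refine ⟨A ∩ B, h2 A hA B hB hAB, fun C hC => ?_⟩
  by_contra hKC
  have hK := h2 A hA B hB hAB
  have hCA : C ≠ A := fun e => hKC (e ▸ Finset.inter_subset_left)
  have hCB : C ≠ B := fun e => hKC (e ▸ Finset.inter_subset_right)
  have hlt : (C ∩ (A ∩ B)).card < e := by
    rw [← hK]
    exact Finset.card_lt_card ⟨Finset.inter_subset_right, fun h => hKC (h.trans Finset.inter_subset_left)⟩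
  set W := A ∪ B with hW
  have hWc : W.card = e + 2 := by
    have := Finset.card_union_add_card_inter A B
    rw [← hW, hK, h1 A hA, h1 B hB] at this
    omega
  have hsub : ∀ D ∈ 𝒮, D ⊆ W := by
    have hdist : ∀ D : Finset α, (D ∩ W).card + (D ∩ (A ∩ B)).card = (D ∩ A).card + (D ∩ B).card := by
      intro D
      rw [hW, Finset.inter_union_distrib_left, show D ∩ (A ∩ B) = (D ∩ A) ∩ (D ∩ B) by
        ext x; simp only [Finset.mem_inter]; tauto]
      exact Finset.card_union_add_card_inter _ _
    have hCW : C ⊆ W := by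
      have h3 := hdist C
      rw [h2 C hC A hA hCA, h2 C hC B hB hCB] at h3
      have h4 : (C ∩ W).card = C.card := by
        have := Finset.card_le_card (Finset.inter_subset_left : C ∩ W ⊆ C)
        rw [h1 C hC] at this ⊢
        omega
      exact Finset.eq_of_subset_of_card_le Finset.inter_subset_left h4.ge ▸ Finset.inter_subset_right
    intro D hD
    by_contra hDW
    have hDWc : (D ∩ W).card ≤ e := by
      have : (D ∩ W).card < D.card := Finset.card_lt_card
        ⟨Finset.inter_subset_left, fun h => hDW (h.trans Finset.inter_subset_right)⟩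
      rw [h1 D hD] at this
      omega
    have heq : ∀ P ∈ 𝒮, P ⊆ W → D ∩ W = D ∩ P := fun P hP hPW =>
      (Finset.eq_of_subset_of_card_le (Finset.inter_subset_inter_left hPW)
        (by rw [h2 D hD P hP (fun e => hDW (e ▸ hPW))]; exact hDWc)).symm
    have eA := heq A hA Finset.subset_union_left
    have eB := heq B hB Finset.subset_union_right
    have eC := heq C hC hCW
    have : D ∩ A ⊆ C ∩ (A ∩ B) := by
      intro x hx
      have hxB : x ∈ D ∩ B := by rw [← eB, eA]; exact hx
      have hxC : x ∈ D ∩ C := by rw [← eC, eA]; exact hx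
      simp only [Finset.mem_inter] at hx hxB hxC ⊢
      exact ⟨hxC.2, hx.2, hxB.2⟩
    have := Finset.card_le_card this
    rw [h2 D hD A hA (fun e => hDW (e ▸ Finset.subset_union_left))] at this
    omega
  have hall : 𝒮 = W.powersetCard (e + 1) := by
    refine Finset.eq_of_subset_of_card_le (fun D hD => Finset.mem_powersetCard.2 ⟨hsub D hD, h1 D hD⟩) ?_
    rw [Finset.card_powersetCard, hWc, hc, Nat.choose_succ_self_right]
  have hconst : ∀ x ∈ W, ∑ y ∈ W, f y = f x + e := by
    intro x hx
    rw [← hf (W.erase x) (by rw [hall, Finset.mem_powersetCard]; exact ⟨Finset.erase_subset _ _, by rw [Finset.card_erase_of_mem hx, hWc]; omega⟩),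
      Finset.add_sum_erase _ _ hx]
  obtain ⟨x₀, hx₀⟩ := Finset.card_pos.1 (show 0 < W.card by omega)
  have hs : ∑ y ∈ W, f y = (e + 2) * f x₀ := by
    rw [Finset.sum_congr rfl (g := fun _ => f x₀) fun y hy => by
      have := hconst y hy; have := hconst x₀ hx₀; omega, Finset.sum_const, hWc, smul_eq_mul]
  have := hconst x₀ hx₀
  rw [hs] at this
  rcases Nat.eq_zero_or_pos (f x₀) with h | h
  · simp [h] at this; omega
  · have : (e + 1) * f x₀ = e := by linarith
    have := Nat.le_mul_of_pos_right (e + 1) h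
    omega

end Cfsg.Agent.SuzukiZass
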