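/-
The kernel of a simple Zassenhaus group of Suzuki type cannot have order `q³`.

* `not_cube`

The proof combines the orthogonality relations with the count of square roots (Frobenius–Schur).
-/
import Cfsg.Agent.Lib.SuzukiZass.Tools
import Cfsg.Agent.Lib.SmallOrders.BlockDegrees.InvolutionFormula
import Cfsg.Agent.EqLemmas

set_option autoImplicit false
set_option linter.style.haveILetI false

open MulAction Cfsg Cfsg.Agent.Char
open scoped ComplexConjugate

namespace Cfsg.Agent.SuzukiZass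

variable {G Ω : Type*} [Group G] [Finite G] [MulAction G Ω] [Finite Ω]

set_option maxHeartbeats 4000000 in
theorem not_cube [IsSimpleGroup G] (S : Setup G Ω) (hc : S.h = S.q ^ 3) : False := by
  classical
  haveI := Fintype.ofFinite G
  haveI := Fintype.ofFinite S.U
  haveI := Fintype.ofFinite S.E
  haveI := Fintype.ofFinite (IrrCharacter G)
  have he3 := S.three_le_e
  obtain ⟨q, hq⟩ : ∃ q, q = S.q := ⟨_, rfl⟩
  have hqe : q = S.e + 1 := hq
  rw [← hq] at hc
  have hq0 : (q : ℂ) ≠ 0 := Nat.cast_ne_zero.2 (by omega)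
  have hh : (Nat.card S.U : ℂ) = (q : ℂ) ^ 3 := by
    rw [show Nat.card S.U = S.h from rfl, hc]; push_cast; rfl
  set C : Subgroup S.U := Subgroup.center S.U with hC
  have hCcard : Nat.card C = q := by
    rw [hq, ← S.card_Z]
    exact Nat.card_congr (Subgroup.equivMapOfInjective C _ S.U.subtype_injective).toEquiv
  have hQcard : Nat.card (S.U ⧸ C) = q ^ 2 := by
    have h1 := Subgroup.card_eq_card_quotient_mul_card_subgroup C
    rw [hCcard, show Nat.card S.U = S.h from rfl, hc] at h1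
    have h2 : Nat.card (S.U ⧸ C) * q = q ^ 2 * q := by rw [← h1]; ring
    exact Nat.eq_of_mul_eq_mul_right (by omega) h2
  have hQcomm : ∀ x y : S.U ⧸ C, x * y = y * x := by
    intro x y
    induction x using QuotientGroup.induction_on with
    | H u =>
    induction y using QuotientGroup.induction_on with
    | H v =>
    rw [← QuotientGroup.mk_mul, ← QuotientGroup.mk_mul, QuotientGroup.eq]
    have h1 := (S1138.result S.isSuzuki).2.1 v u
    rwa [show (u * v)⁻¹ * (v * u) = v⁻¹ * u⁻¹ * v * u by group]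
  haveI := Fintype.ofFinite (S.U ⧸ C)
  haveI := Fintype.ofFinite (IrrCharacter (S.U ⧸ C))
  let lf : IrrCharacter (S.U ⧸ C) → S.U → ℂ := fun l u => (l : S.U ⧸ C → ℂ) (u : S.U ⧸ C)
  have hlirr : ∀ l, IsIrrCharacter S.U (lf l) := fun l =>
    IsIrrCharacter.comp_surjective l.2 (QuotientGroup.mk' C) (QuotientGroup.mk'_surjective C)
  have hdeg1 : ∀ l : IrrCharacter (S.U ⧸ C), (l : S.U ⧸ C → ℂ) 1 = 1 := apply_one_eq_one_of_comm hQcomm
  have hl1 : ∀ l, lf l 1 = 1 := fun l => hdeg1 l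
  have hlmul : ∀ l u v, lf l (u * v) = lf l u * lf l v := by
    intro l u v
    obtain ⟨f, hf⟩ := exists_hom_of_degree_one (IsIrrCharacter.isCharacter l.2) (hdeg1 l)
    simp only [lf, ← hf, QuotientGroup.mk_mul, map_mul]
  have hlC : ∀ l, ∀ u ∈ C, lf l u = 1 := by
    intro l u hu
    simp only [lf, (QuotientGroup.eq_one_iff u).2 hu, hdeg1]
  -- a central involution
  obtain ⟨t, htU, ht⟩ := S.exists_inv_U
  have ht1 : t ≠ 1 := fun h => by simp [h] at ht
  have htt : t * t = 1 := by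
    have := pow_orderOf_eq_one t
    rwa [ht, pow_two] at this
  have htZ : t ∈ S.Z := S.mem_Z.2 ⟨htU, htt⟩
  have hmemC : ∀ u : S.U, u ∈ C ↔ (u : G) ∈ S.Z := fun u =>
    ⟨fun hu => ⟨u, hu, rfl⟩, fun hu => by
      obtain ⟨v, hv, hvu⟩ := hu
      rwa [← Subtype.ext hvu]⟩
  have hconj : ∀ {χ : G → ℂ}, IsClassFunction G χ → ∀ u : S.U, u ∈ C → u ≠ 1 → χ u = χ t := by
    intro χ hχ u hu hu1
    obtain ⟨k, -, hk⟩ := S.Z_trans htZ ht1 ((hmemC u).1 hu) (fun e => hu1 (Subtype.ext e))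
    rw [← hk, hχ]
  have hsumC : ∀ {χ : G → ℂ}, IsClassFunction G χ →
      ∑ u ∈ Finset.univ.filter (fun u : S.U => u ∈ C), χ u = χ 1 + (S.e : ℂ) * χ t := by
    intro χ hχ
    have hmem : (1 : S.U) ∈ Finset.univ.filter (fun u : S.U => u ∈ C) := by simp [C.one_mem]
    rw [← Finset.add_sum_erase _ _ hmem, OneMemClass.coe_one,
      Finset.sum_congr rfl (g := fun _ => χ t) fun u hu => by
        simp only [Finset.mem_erase, Finset.mem_filter, Finset.mem_univ, true_and] at hu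
        exact hconj hχ u hu.2 hu.1,
      Finset.sum_const, nsmul_eq_mul, Finset.card_erase_of_mem hmem, ← Fintype.card_subtype,
      ← Nat.card_eq_fintype_card, show Nat.card {u : S.U // u ∈ C} = q from hCcard, hqe, Nat.add_sub_cancel]
  have hR1 : rootCount (1 : G) = 1 + ((q : ℂ) ^ 3 + 1) * S.e := by
    rw [rootCount, S.card_sq_one, hc]; push_cast; rfl
  have hRt : rootCount t = (q : ℂ) ^ 2 + q := by
    have h1 := S.card_roots htZ ht1
    rw [hc, ← hq] at h1
    have h2 : (S.e * Nat.card {g : G // g * g = t} + q : ℕ) = q ^ 3 := by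
      have : q ≤ q ^ 3 := Nat.le_self_pow (by norm_num) q
      omega
    have h3 : Nat.card {g : G // g * g = t} = q ^ 2 + q := by
      refine Nat.eq_of_mul_eq_mul_left S.e_pos ?_
      rw [hqe] at h2 ⊢
      nlinarith
    rw [rootCount, h3]; push_cast; rfl
  have hR0 : ∀ u : S.U, u ∉ C → rootCount (u : G) = 0 := by
    intro u hu
    rw [rootCount]
    have : IsEmpty {g : G // g * g = u} := ⟨fun g => S.no_roots u.2 (fun h => hu ((hmemC u).2 h)) g.1 g.2⟩
    simp
  have hRsum : ∀ f : G → ℂ, IsClassFunction G f →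
      ∑ u : S.U, rootCount (u : G) * f u =
        rootCount (1 : G) * f 1 + rootCount t * ((S.e : ℂ) * f t) := by
    intro f hf
    have hprod : IsClassFunction G (fun g => rootCount g * f g) := fun g x => by
      simp [rootCount_class g x, hf g x]
    rw [← Finset.sum_filter_add_sum_filter_not Finset.univ (fun u : S.U => u ∈ C),
      Finset.sum_eq_zero (s := Finset.univ.filter fun u : S.U => ¬ u ∈ C) fun u hu => by
        rw [hR0 u (Finset.mem_filter.1 hu).2, zero_mul], add_zero, hsumC hprod]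
    ring
  have hRlin : ∀ l, classInner (fun u : S.U => rootCount (u : G)) (lf l) = (q : ℂ) := by
    intro l
    rw [classInner, hh, ← Finset.sum_filter_add_sum_filter_not Finset.univ (fun u : S.U => u ∈ C),
      Finset.sum_eq_zero (s := Finset.univ.filter fun u : S.U => ¬ u ∈ C) fun u hu => by
        rw [hR0 u (Finset.mem_filter.1 hu).2, zero_mul], add_zero,
      Finset.sum_congr rfl (g := fun u : S.U => rootCount (u : G)) fun u hu => by
        rw [hlC l u (Finset.mem_filter.1 hu).2, map_one, mul_one],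
      hsumC rootCount_class, hR1, hRt, hqe]
    push_cast
    field_simp
    ring
  -- multiplicities, degrees, values at the involution
  have hmult : ∀ l (χ : IrrCharacter G), ∃ k : ℕ, classInner (lf l) (fun u : S.U => (χ : G → ℂ) u) = k :=
    fun l χ => IsCharacter.classInner_nat (IsIrrCharacter.isCharacter (hlirr l))
      (IsCharacter.restrict (IsIrrCharacter.isCharacter χ.2) S.U)
  choose m hm using hmult
  have hdeg : ∀ χ : IrrCharacter G, ∃ d : ℕ, (χ : G → ℂ) 1 = d := fun χ =>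
    (IsIrrCharacter.exists_degree χ.2).imp fun _ h => h.2
  choose d hd using hdeg
  have hTex : ∀ χ : IrrCharacter G, ∃ v : ℤ, (χ : G → ℂ) t = v := fun χ => by
    obtain ⟨v, hv, -⟩ := SmallOrders.BlockDegrees.exists_int_of_involution (IsIrrCharacter.isCharacter χ.2) htt
    exact ⟨v, hv⟩
  choose T hT using hTex
  let A : IrrCharacter G → ℤ := fun χ => ∑ l, (m l χ : ℤ)
  have hA : ∀ χ, (q : ℤ) * A χ = (d χ : ℤ) + (S.e : ℤ) * T χ := by
    intro χ
    have hreg : ∀ u : S.U, ∑ l, lf l u = if u ∈ C then (q : ℂ) ^ 2 else 0 := by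
      intro u
      have h1 := sum_degree_mul_apply (G := S.U ⧸ C) (u : S.U ⧸ C)
      simp only [hdeg1, one_mul, QuotientGroup.eq_one_iff, hQcard] at h1
      rw [show ∑ l, lf l u = ∑ l : IrrCharacter (S.U ⧸ C), (l : S.U ⧸ C → ℂ) (u : S.U ⧸ C) from rfl, h1]
      push_cast
      rfl
    have h2 : ∑ l, classInner (lf l) (fun u : S.U => (χ : G → ℂ) u) =
        ((q : ℂ) ^ 3)⁻¹ * ((q : ℂ) ^ 2 * (conj ((χ : G → ℂ) 1) + (S.e : ℂ) * conj ((χ : G → ℂ) t))) := by
      simp only [classInner, hh]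
      rw [← Finset.mul_sum, Finset.sum_comm,
        ← hsumC (χ := fun g => conj ((χ : G → ℂ) g)) (fun g x => by simp [IsIrrCharacter.isClassFunction χ.2 g x]),
        Finset.mul_sum (a := (q : ℂ) ^ 2), Finset.sum_filter]
      congr 1
      refine Finset.sum_congr rfl fun u _ => ?_
      rw [← Finset.sum_mul, hreg, ite_mul, zero_mul]
    rw [Finset.sum_congr rfl (fun l _ => hm l χ), hd, hT, map_natCast, map_intCast] at h2
    have h3 : (q : ℂ) * (A χ : ℂ) = (d χ : ℂ) + (S.e : ℂ) * (T χ : ℂ) := by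
      simp only [A, Int.cast_sum, Int.cast_natCast]
      rw [h2]
      field_simp
    exact_mod_cast h3
  have hdvd : ∀ χ, (q : ℤ) ^ 2 ∣ (d χ : ℤ) - T χ := by
    intro χ
    have hex : ∀ φ : IrrCharacter G, ∃ k : ℕ,
        classInner (fun u : S.U => (χ : G → ℂ) u) (fun u : S.U => (φ : G → ℂ) u) = k := fun φ =>
      IsCharacter.classInner_nat (IsCharacter.restrict (IsIrrCharacter.isCharacter χ.2) S.U)
        (IsCharacter.restrict (IsIrrCharacter.isCharacter φ.2) S.U)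
    choose k hk using hex
    have h1 := sum_ind2_coeff S.U (fun u : S.U => (χ : G → ℂ) u)
    simp only [hk, map_natCast] at h1
    rw [classInner, hh, hRsum (fun g => conj ((χ : G → ℂ) g))
      (fun g x => by simp [IsIrrCharacter.isClassFunction χ.2 g x]), hd, hT, map_natCast, map_intCast,
      hR1, hRt] at h1
    have h2 : ((1 + ((q : ℂ) ^ 3 + 1) * S.e) * d χ + ((q : ℂ) ^ 2 + q) * (S.e * T χ)) =
        (q : ℂ) ^ 3 * ∑ φ, (ind2 φ : ℂ) * (k φ : ℂ) := by
      rw [h1]; field_simp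
    obtain ⟨I, hI⟩ : ∃ I : ℤ, I = ∑ φ, ind2 φ * (k φ : ℤ) := ⟨_, rfl⟩
    have h3 : (1 + ((q : ℤ) ^ 3 + 1) * S.e) * d χ + ((q : ℤ) ^ 2 + q) * (S.e * T χ) = (q : ℤ) ^ 3 * I := by
      rw [hI]; exact_mod_cast h2
    have he' : (S.e : ℤ) = (q : ℤ) - 1 := by rw [hqe]; push_cast; ring
    have h4 := hA χ
    have hq2 : (q : ℤ) ^ 2 ≠ 0 := pow_ne_zero _ (by exact_mod_cast (show q ≠ 0 by omega))
    have h5 : ((q : ℤ) ^ 2 - q - 1) * d χ + ((q : ℤ) + 1) * A χ = q * I := by
      refine mul_left_cancel₀ hq2 ?_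
      rw [he'] at h3 h4
      linear_combination h3 + ((q : ℤ) ^ 2 + q) * h4
    have h6 : (S.e : ℤ) * ((d χ : ℤ) - T χ) = (q : ℤ) ^ 2 * (((q : ℤ) - 1) * d χ + A χ - I) := by
      rw [he'] at h4 ⊢
      linear_combination h4 - (q : ℤ) * h5
    obtain ⟨J, hJ⟩ : ∃ J, J = ((q : ℤ) - 1) * d χ + A χ - I := ⟨_, rfl⟩
    rw [← hJ, he'] at h6
    have h7 : ((d χ : ℤ) - T χ) = (q : ℤ) * (((d χ : ℤ) - T χ) - q * J) := by linear_combination -h6
    refine ⟨((d χ : ℤ) - T χ) - q * J - J, ?_⟩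
    linear_combination -h6 + (q : ℤ) * h7
  choose M hM using hdvd
  -- the global equations
  have eqM1 : ∑ χ, ind2 χ * M χ = (q : ℤ) ^ 2 - q - 1 := by
    have h1 := sum_ind2_apply (G := G) 1
    have h2 := sum_ind2_apply (G := G) t
    simp only [hd] at h1
    simp only [hT] at h2
    have h3 : (q : ℂ) ^ 2 * ∑ χ, (ind2 χ : ℂ) * (M χ : ℂ) = (q : ℂ) ^ 2 * ((q : ℂ) ^ 2 - q - 1) := by
      rw [Finset.mul_sum]
      calc ∑ χ, (q : ℂ) ^ 2 * ((ind2 χ : ℂ) * (M χ : ℂ))
          = ∑ χ, ((ind2 χ : ℂ) * (d χ : ℂ) - (ind2 χ : ℂ) * (T χ : ℂ)) := Finset.sum_congr rfl fun χ _ => by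
            have h4 : (d χ : ℂ) - (T χ : ℂ) = (q : ℂ) ^ 2 * (M χ : ℂ) := by exact_mod_cast hM χ
            rw [← mul_sub, h4]; ring
        _ = _ := by
            rw [Finset.sum_sub_distrib, h1, h2, hR1, hRt, hqe]
            push_cast
            ring
    have := mul_left_cancel₀ (pow_ne_zero 2 hq0) h3
    exact_mod_cast this
  have eqM2 : ∑ χ, M χ ^ 2 = (q : ℤ) ^ 3 - (q : ℤ) ^ 2 + 1 := by
    have h1 : ∑ χ : IrrCharacter G, (d χ : ℂ) ^ 2 = (Nat.card G : ℂ) := by
      rw [← sum_sq_degrees (G := G)]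
      simp [hd]
    have h2 : ∑ χ : IrrCharacter G, (d χ : ℂ) * (T χ : ℂ) = 0 := by
      have h := column_orth (G := G) 1 t
      rw [if_neg (by rw [isConj_one_right]; exact ht1)] at h
      simpa [hd, hT] using h
    have hCt : Subgroup.centralizer ({t} : Set G) = S.U := by
      ext g
      rw [Subgroup.mem_centralizer_singleton_iff]
      exact ⟨fun h => S.mem_U_of_commute htU ht1 h, fun h => S.Z_central htZ h⟩
    have h3 : ∑ χ : IrrCharacter G, (T χ : ℂ) ^ 2 = (q : ℂ) ^ 3 := by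
      have h := column_orth (G := G) t t
      rw [if_pos (IsConj.refl t), hCt, hh] at h
      simpa [hT, pow_two] using h
    have h4 : (q : ℂ) ^ 4 * ∑ χ, (M χ : ℂ) ^ 2 = (q : ℂ) ^ 4 * ((q : ℂ) ^ 3 - (q : ℂ) ^ 2 + 1) := by
      rw [Finset.mul_sum]
      calc ∑ χ, (q : ℂ) ^ 4 * (M χ : ℂ) ^ 2
          = ∑ χ, ((d χ : ℂ) ^ 2 - 2 * ((d χ : ℂ) * (T χ : ℂ)) + (T χ : ℂ) ^ 2) := Finset.sum_congr rfl fun χ _ => by
            have h4 : (d χ : ℂ) - (T χ : ℂ) = (q : ℂ) ^ 2 * (M χ : ℂ) := by exact_mod_cast hM χ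
            linear_combination -((d χ : ℂ) - (T χ : ℂ) + (q : ℂ) ^ 2 * (M χ : ℂ)) * h4
        _ = _ := by
            rw [Finset.sum_add_distrib, Finset.sum_sub_distrib, ← Finset.mul_sum, h1, h2, h3, S.card_G, hc, hqe]
            push_cast
            ring
    have := mul_left_cancel₀ (pow_ne_zero 4 hq0) h4
    exact_mod_cast this
  have hindt : ∀ l, indFun S.U (lf l) t = (S.e : ℂ) := by
    intro l
    have := ind_value S (θ := lf l) (IsIrrCharacter.isClassFunction (hlirr l))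
      (u := ⟨t, htU⟩) (fun e => ht1 (congrArg Subtype.val e))
    rw [show ((⟨t, htU⟩ : S.U) : G) = t from rfl] at this
    rw [this, Finset.sum_congr rfl (g := fun _ => (1 : ℂ)) fun k _ => hlC l _ ((hmemC _).2 (S.mem_Z.2
      ⟨(S.act k ⟨t, htU⟩).2, by rw [← Subgroup.coe_mul, ← map_mul,
        show (⟨t, htU⟩ : S.U) * ⟨t, htU⟩ = 1 from Subtype.ext htt, map_one]; rfl⟩))]
    simp [← Nat.card_eq_fintype_card, Setup.e]
  have hind1 : ∀ l, indFun S.U (lf l) 1 = ((q : ℂ) ^ 3 + 1) * S.e := by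
    intro l
    rw [ind_one S (hl1 l), hc]; push_cast; rfl
  have eqAM : ∀ l, ∑ χ, (m l χ : ℤ) * M χ = (q : ℤ) * S.e := by
    intro l
    have h1 := sum_coeff_apply S.U (lf l) 1
    have h2 := sum_coeff_apply S.U (lf l) t
    simp only [hm, hd, hind1] at h1
    simp only [hm, hT, hindt] at h2
    have h3 : (q : ℂ) ^ 2 * ∑ χ, (m l χ : ℂ) * (M χ : ℂ) = (q : ℂ) ^ 2 * ((q : ℂ) * S.e) := by
      rw [Finset.mul_sum]
      calc ∑ χ, (q : ℂ) ^ 2 * ((m l χ : ℂ) * (M χ : ℂ))
          = ∑ χ, ((m l χ : ℂ) * (d χ : ℂ) - (m l χ : ℂ) * (T χ : ℂ)) := Finset.sum_congr rfl fun χ _ => by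
            have h4 : (d χ : ℂ) - (T χ : ℂ) = (q : ℂ) ^ 2 * (M χ : ℂ) := by exact_mod_cast hM χ
            rw [← mul_sub, h4]; ring
        _ = _ := by rw [Finset.sum_sub_distrib, h1, h2]; ring
    have := mul_left_cancel₀ (pow_ne_zero 2 hq0) h3
    exact_mod_cast this
  have eqAA : ∀ l, ∑ χ, (m l χ : ℤ) * A χ = (S.e : ℤ) * ((q : ℤ) ^ 2 + 1) := by
    intro l
    have h1 := sum_coeff_apply S.U (lf l) 1
    have h2 := sum_coeff_apply S.U (lf l) t
    simp only [hm, hd, hind1] at h1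
    simp only [hm, hT, hindt] at h2
    have h3 : (q : ℂ) * ∑ χ, (m l χ : ℂ) * (A χ : ℂ) = (q : ℂ) * ((S.e : ℂ) * ((q : ℂ) ^ 2 + 1)) := by
      rw [Finset.mul_sum]
      calc ∑ χ, (q : ℂ) * ((m l χ : ℂ) * (A χ : ℂ))
          = ∑ χ, ((m l χ : ℂ) * (d χ : ℂ) + (S.e : ℂ) * ((m l χ : ℂ) * (T χ : ℂ))) := Finset.sum_congr rfl fun χ _ => by
            have h4 : (q : ℂ) * (A χ : ℂ) = (d χ : ℂ) + (S.e : ℂ) * (T χ : ℂ) := by exact_mod_cast hA χ
            linear_combination (m l χ : ℂ) * h4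
        _ = _ := by
            rw [Finset.sum_add_distrib, ← Finset.mul_sum, h1, h2, hqe]
            push_cast
            ring
    have := mul_left_cancel₀ hq0 h3
    exact_mod_cast this
  let N : IrrCharacter (S.U ⧸ C) → IrrCharacter (S.U ⧸ C) → ℕ := fun l l' =>
    Nat.card {k : S.E // lf l = fun u => lf l' (S.act k u)}
  have eqG : ∀ l l', ∑ χ, (m l χ : ℤ) * (m l' χ : ℤ) = (S.e : ℤ) + N l l' := by
    intro l l'
    have h1 := gram_lin S (hlirr l) (hlirr l') (hl1 l) (hl1 l')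
    simp only [hm, map_natCast] at h1
    exact_mod_cast h1
  have eqR : ∀ l, ∑ χ, ind2 χ * (m l χ : ℤ) = q := by
    intro l
    have h1 := sum_ind2_coeff S.U (lf l)
    simp only [hm, map_natCast, hRlin] at h1
    exact_mod_cast h1
  -- the trivial character of the quotient
  let l₀ : IrrCharacter (S.U ⧸ C) := ⟨1, isIrrCharacter_one⟩
  have hl0 : ∀ l, (∀ u, lf l u = 1) → l = l₀ := by
    intro l hl
    refine Subtype.ext (funext fun x => ?_)
    induction x using QuotientGroup.induction_on with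
    | H u => exact hl u
  have hNle : ∀ l, l ≠ l₀ → ∀ l', N l' l ≤ 1 := by
    intro l hl l'
    rw [Finite.card_le_one_iff_subsingleton]
    refine ⟨fun k k' => Subtype.ext ?_⟩
    by_contra hne
    refine hl (hl0 l fun u => eq_one_of_fixed S (hlmul l) (hl1 l)
      (k := k.1 * k'.1⁻¹) (fun e => hne (mul_inv_eq_one.1 e)) (fun v => ?_) u)
    have := congrFun (k.2.symm.trans k'.2) ((S.act k'.1).symm v)
    simpa [map_mul, MulAut.inv_def] using this
  have hNself : ∀ l, l ≠ l₀ → N l l = 1 := fun l hl => le_antisymm (hNle l hl l)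
    (Nat.card_pos_iff.2 ⟨⟨⟨1, by simp⟩⟩, inferInstance⟩)
  have hNsymm0 : ∀ l, l ≠ l₀ → N l l₀ = 0 ∧ N l₀ l = 0 := by
    intro l hl
    constructor
    · have : IsEmpty {k : S.E // lf l = fun u => lf l₀ (S.act k u)} :=
        ⟨fun k => hl (hl0 l fun u => by rw [k.2]; rfl)⟩
      simp [N]
    · have : IsEmpty {k : S.E // lf l₀ = fun u => lf l (S.act k u)} :=
        ⟨fun k => hl (hl0 l fun u => by
          have := congrFun k.2 ((S.act k.1).symm u)
          simpa [lf, l₀] using this.symm)⟩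
      simp [N]
  have hN00 : N l₀ l₀ = S.e := by
    simp only [N, lf, l₀, Pi.one_apply]
    exact Nat.card_congr (Equiv.subtypeUnivEquiv fun k => trivial)
  -- zero-one rows
  have h01 : ∀ l, l ≠ l₀ → ∀ χ, m l χ = 0 ∨ (m l χ = 1 ∧ ind2 χ = 1) := by
    intro l hl χ
    have h1 := eqG l l
    rw [hNself l hl] at h1
    have hsum : ∑ χ, ((m l χ : ℤ) * (m l χ : ℤ) - ind2 χ * (m l χ : ℤ)) = 0 := by
      rw [Finset.sum_sub_distrib, h1, eqR, hqe]; push_cast; ring
    have hnn : ∀ χ, 0 ≤ (m l χ : ℤ) * (m l χ : ℤ) - ind2 χ * (m l χ : ℤ) := fun χ => by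
      rcases Nat.eq_zero_or_pos (m l χ) with h | h
      · simp [h]
      · have h' : (1 : ℤ) ≤ (m l χ : ℤ) := by exact_mod_cast h
        rcases ind2_cases χ with hv | hv | hv <;> rw [hv] <;> nlinarith
    have h2 := (Finset.sum_eq_zero_iff_of_nonneg fun χ _ => hnn χ).1 hsum χ (Finset.mem_univ _)
    rw [← sub_mul, mul_eq_zero] at h2
    rcases h2 with h2 | h2
    · rcases Nat.eq_zero_or_pos (m l χ) with h | h
      · exact Or.inl h
      · right
        rcases ind2_cases χ with hv | hv | hv <;> rw [hv] at h2 ⊢ <;> omega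
    · exact Or.inl (by exact_mod_cast h2)
  let Sset : IrrCharacter (S.U ⧸ C) → Finset (IrrCharacter G) := fun l => Finset.univ.filter fun χ => m l χ = 1
  have hsumS : ∀ l, l ≠ l₀ → ∀ f : IrrCharacter G → ℤ, ∑ χ, (m l χ : ℤ) * f χ = ∑ χ ∈ Sset l, f χ := by
    intro l hl f
    rw [Finset.sum_filter]
    refine Finset.sum_congr rfl fun χ _ => ?_
    rcases h01 l hl χ with h | ⟨h, -⟩ <;> simp [h]
  let Ls : Finset (IrrCharacter (S.U ⧸ C)) := Finset.univ.erase l₀
  have hScard : ∀ l, l ≠ l₀ → (Sset l).card = S.e + 1 := by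
    intro l hl
    have h1 := eqG l l
    rw [hsumS l hl, hNself l hl, Finset.sum_congr rfl (g := fun _ => (1 : ℤ)) fun χ hχ => by
      simp [(Finset.mem_filter.1 hχ).2]] at h1
    simp only [Finset.sum_const, nsmul_eq_mul, mul_one] at h1
    exact_mod_cast h1
  have hinter : ∀ l, l ≠ l₀ → ∀ l', l' ≠ l₀ → (Sset l ∩ Sset l').card = S.e + N l l' := by
    intro l hl l' hl'
    have h1 := eqG l l'
    rw [hsumS l hl] at h1
    have h2 : ∑ χ ∈ Sset l, (m l' χ : ℤ) = ((Sset l ∩ Sset l').card : ℤ) := by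
      conv_rhs => rw [Finset.card_eq_sum_ones, Nat.cast_sum, ← Finset.filter_mem_eq_inter, Finset.sum_filter]
      refine Finset.sum_congr rfl fun χ _ => ?_
      rcases h01 l' hl' χ with h | ⟨h, -⟩ <;> simp [Sset, h]
    rw [h2] at h1
    exact_mod_cast h1
  have hfib : ∀ l, l ≠ l₀ → (Ls.filter fun l' => Sset l' = Sset l).card = S.e := by
    intro l hl
    have h1 : ∑ l', (N l l' : ℤ) = S.e := by
      have h2 := eqAA l
      simp only [A, Finset.mul_sum] at h2
      rw [Finset.sum_comm, Finset.sum_congr rfl (fun l' _ => eqG l l'), Finset.sum_add_distrib, Finset.sum_const,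
        nsmul_eq_mul, Finset.card_univ, ← Nat.card_eq_fintype_card, card_irr_eq_card_conjClasses,
        card_conjClasses_of_comm hQcomm, hQcard] at h2
      push_cast at h2
      linarith
    have h3 : ((Ls.filter fun l' => Sset l' = Sset l).card : ℤ) = ∑ l', (N l l' : ℤ) := by
      rw [← Finset.add_sum_erase _ _ (Finset.mem_univ l₀), (hNsymm0 l hl).1, Nat.cast_zero, zero_add,
        Finset.card_eq_sum_ones, Nat.cast_sum, Finset.sum_filter]
      refine Finset.sum_congr rfl fun l' hl' => ?_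
      have hl'0 := (Finset.mem_erase.1 hl').1
      have hi := hinter l hl l' hl'0
      have hle := hNle l' hl'0 l
      split_ifs with h
      · rw [h, Finset.inter_self, hScard l hl] at hi
        have : N l l' = 1 := by omega
        simp [this]
      · have : N l l' = 0 := by
          by_contra hN
          refine h ?_
          have h5 : Sset l ∩ Sset l' = Sset l :=
            Finset.eq_of_subset_of_card_le Finset.inter_subset_left (by rw [hi, hScard l hl]; omega)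
          exact (Finset.eq_of_subset_of_card_le (Finset.inter_eq_left.1 h5) (by rw [hScard l hl, hScard l' hl'0])).symm
        simp [this]
    have h4 := h3.trans h1
    exact_mod_cast h4
  let 𝒮 := Ls.image Sset
  have hmem𝒮 : ∀ B ∈ 𝒮, ∃ l, l ≠ l₀ ∧ Sset l = B := by
    intro B hB
    obtain ⟨l, hl, rfl⟩ := Finset.mem_image.1 hB
    exact ⟨l, (Finset.mem_erase.1 hl).1, rfl⟩
  have h𝒮card : 𝒮.card = S.e + 2 := by
    have h1 := Finset.card_eq_sum_card_image Sset Ls
    rw [Finset.sum_congr rfl (g := fun _ => S.e) fun B hB => by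
      obtain ⟨l, hl, rfl⟩ := hmem𝒮 B hB
      exact hfib l hl, Finset.sum_const, smul_eq_mul] at h1
    simp only [Ls] at h1
    rw [Finset.card_erase_of_mem (Finset.mem_univ _), Finset.card_univ, ← Nat.card_eq_fintype_card,
      card_irr_eq_card_conjClasses, card_conjClasses_of_comm hQcomm, hQcard, hqe] at h1
    refine Nat.eq_of_mul_eq_mul_right S.e_pos (h1.symm.trans ?_)
    have e1 : (S.e + 1) ^ 2 = (S.e + 2) * S.e + 1 := by ring
    omega
  have hsum0 : ∀ l, l ≠ l₀ → ∑ χ ∈ Sset l, m l₀ χ = S.e := by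
    intro l hl
    have h1 := eqG l l₀
    rw [hsumS l hl, (hNsymm0 l hl).1] at h1
    exact_mod_cast h1
  obtain ⟨K, hKc, hKsub⟩ := sunflower 𝒮 S.e (by omega) h𝒮card
    (fun B hB => by obtain ⟨l, hl, rfl⟩ := hmem𝒮 B hB; exact hScard l hl)
    (fun B hB B' hB' hne => by
      obtain ⟨l, hl, rfl⟩ := hmem𝒮 B hB
      obtain ⟨l', hl', rfl⟩ := hmem𝒮 B' hB'
      have hle := hNle l' hl' l
      have hi := hinter l hl l' hl'
      rcases Nat.eq_zero_or_pos (N l l') with h | h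
      · rw [hi, h, add_zero]
      · exfalso
        refine hne ?_
        have h5 : Sset l ∩ Sset l' = Sset l :=
          Finset.eq_of_subset_of_card_le Finset.inter_subset_left (by rw [hi, hScard l hl]; omega)
        exact Finset.eq_of_subset_of_card_le (Finset.inter_eq_left.1 h5) (by rw [hScard l hl, hScard l' hl']))
    (m l₀) (fun B hB => by obtain ⟨l, hl, rfl⟩ := hmem𝒮 B hB; exact hsum0 l hl)
  have hpet : ∀ B ∈ 𝒮, ∃ x, x ∉ K ∧ B = insert x K := by
    intro B hB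
    obtain ⟨l, hl, rfl⟩ := hmem𝒮 B hB
    obtain ⟨x, hx⟩ := Finset.card_eq_one.1 (show (Sset l \ K).card = 1 by
      rw [Finset.card_sdiff_of_subset (hKsub _ hB), hScard l hl, hKc]; omega)
    refine ⟨x, (Finset.mem_sdiff.1 (hx ▸ Finset.mem_singleton_self x)).2, ?_⟩
    rw [Finset.insert_eq, ← hx, Finset.sdiff_union_of_subset (hKsub _ hB)]
  haveI : Nonempty (IrrCharacter G) := ⟨⟨1, isIrrCharacter_one⟩⟩
  choose! pet hpetK hpetB using hpet
  have hpinj : Set.InjOn pet (𝒮 : Set (Finset (IrrCharacter G))) := fun B hB B' hB' e => by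
    rw [hpetB B hB, hpetB B' hB', e]
  obtain ⟨X, hX⟩ : ∃ X, X = 𝒮.image pet := ⟨_, rfl⟩
  have hXc : X.card = S.e + 2 := by rw [hX, Finset.card_image_of_injOn hpinj, h𝒮card]
  have hpetmem : ∀ B ∈ 𝒮, pet B ∈ B := fun B hB => by
    have h := Finset.mem_insert_self (pet B) K
    rwa [← hpetB B hB] at h
  have hdisj : Disjoint K X := by
    rw [Finset.disjoint_right, hX]
    intro x hx
    obtain ⟨B, hB, rfl⟩ := Finset.mem_image.1 hx
    exact hpetK B hB
  have hpetal : ∀ {β : Type} [AddCommMonoid β] (f : IrrCharacter G → β) (B : Finset (IrrCharacter G)),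
      B ∈ 𝒮 → ∑ χ ∈ B, f χ = f (pet B) + ∑ χ ∈ K, f χ := fun f B hB => by
    conv_lhs => rw [hpetB B hB]
    rw [Finset.sum_insert (hpetK B hB)]
  have hrows : ∀ χ ∈ K ∪ X, ind2 χ = 1 := by
    intro χ hχ
    obtain ⟨B, hB, hχB⟩ : ∃ B ∈ 𝒮, χ ∈ B := by
      rcases Finset.mem_union.1 hχ with h | h
      · obtain ⟨B, hB⟩ := Finset.card_pos.1 (show 0 < 𝒮.card by omega)
        exact ⟨B, hB, hKsub B hB h⟩
      · rw [hX] at h
        obtain ⟨B, hB, rfl⟩ := Finset.mem_image.1 h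
        exact ⟨B, hB, hpetmem B hB⟩
    obtain ⟨l, hl, rfl⟩ := hmem𝒮 B hB
    have h1 : m l χ = 1 := (Finset.mem_filter.1 hχB).2
    rcases h01 l hl χ with h | ⟨-, h⟩
    · omega
    · exact h
  -- the trivial character of the group
  let χ₁ : IrrCharacter G := ⟨1, isIrrCharacter_one⟩
  have hχ0 : ∀ l, m l χ₁ = if l = l₀ then 1 else 0 := by
    intro l
    have h1 := hm l χ₁
    rw [show (fun u : S.U => (χ₁ : G → ℂ) u) = (1 : S.U → ℂ) from rfl,
      classInner_irr (hlirr l) isIrrCharacter_one] at h1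
    by_cases hl : l = l₀
    · subst hl
      rw [if_pos (show lf l₀ = 1 from rfl)] at h1
      rw [if_pos rfl]
      exact_mod_cast h1.symm
    · rw [if_neg (fun e : lf l = (1 : S.U → ℂ) => hl (hl0 l fun u => congrFun e u))] at h1
      rw [if_neg hl]
      exact_mod_cast h1.symm
  have hχ1mem : χ₁ ∉ K ∪ X := by
    intro hmem
    obtain ⟨B, hB, hχB⟩ : ∃ B ∈ 𝒮, χ₁ ∈ B := by
      rcases Finset.mem_union.1 hmem with h | h
      · obtain ⟨B, hB⟩ := Finset.card_pos.1 (show 0 < 𝒮.card by omega)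
        exact ⟨B, hB, hKsub B hB h⟩
      · rw [hX] at h
        obtain ⟨B, hB, he⟩ := Finset.mem_image.1 h
        exact ⟨B, hB, he ▸ hpetmem B hB⟩
    obtain ⟨l, hl, rfl⟩ := hmem𝒮 B hB
    have h1 : m l χ₁ = 1 := (Finset.mem_filter.1 hχB).2
    rw [hχ0, if_neg hl] at h1
    omega
  -- the multiplicity of the trivial character vanishes on the petals
  obtain ⟨B₀, hB₀⟩ := Finset.card_pos.1 (show 0 < 𝒮.card by omega)
  obtain ⟨c, hcdef⟩ : ∃ c, c = ∑ χ ∈ K, m l₀ χ := ⟨_, rfl⟩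
  have hm0 : ∀ B ∈ 𝒮, m l₀ (pet B) + c = S.e := by
    intro B hB
    obtain ⟨l, hl, rfl⟩ := hmem𝒮 B hB
    rw [hcdef, ← hpetal (m l₀) _ hB, hsum0 l hl]
  have ht0 : m l₀ (pet B₀) = 0 := by
    obtain ⟨τ, hτ⟩ : ∃ τ, τ = m l₀ (pet B₀) := ⟨_, rfl⟩
    rw [← hτ]
    have hXval : ∀ x ∈ X, m l₀ x = τ := by
      intro x hx
      rw [hX] at hx
      obtain ⟨B, hB, rfl⟩ := Finset.mem_image.1 hx
      have := hm0 B hB; have := hm0 B₀ hB₀; omega
    have h1 : ∑ χ, (m l₀ χ) * (m l₀ χ) = S.e + S.e := by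
      have h2 := eqG l₀ l₀
      rw [hN00] at h2
      exact_mod_cast h2
    have h2 : (S.e + 2) * (τ * τ) + c + 1 ≤ ∑ χ, (m l₀ χ) * (m l₀ χ) := by
      rw [← Finset.sum_sdiff (Finset.subset_univ (K ∪ X)), Finset.sum_union hdisj,
        Finset.sum_congr rfl (s₂ := X) (g := fun _ => τ * τ) (fun x hx => by rw [hXval x hx]),
        Finset.sum_const, hXc, smul_eq_mul]
      have h3 : m l₀ χ₁ * m l₀ χ₁ ≤ ∑ χ ∈ Finset.univ \ (K ∪ X), m l₀ χ * m l₀ χ :=
        Finset.single_le_sum (f := fun χ => m l₀ χ * m l₀ χ) (fun _ _ => Nat.zero_le _)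
          (Finset.mem_sdiff.2 ⟨Finset.mem_univ _, hχ1mem⟩)
      rw [hχ0, if_pos rfl] at h3
      have h4 : c ≤ ∑ χ ∈ K, m l₀ χ * m l₀ χ := by
        rw [hcdef]; exact Finset.sum_le_sum fun χ _ => Nat.le_mul_self _
      omega
    have h3 := hm0 B₀ hB₀
    rw [← hτ] at h3
    by_contra hne
    have h4 : τ ≤ τ * τ := Nat.le_mul_self _
    have h5 : 1 ≤ τ := Nat.one_le_iff_ne_zero.2 hne
    nlinarith
  have hApet : ∀ B ∈ 𝒮, A (pet B) = S.e := by
    intro B hB
    simp only [A]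
    rw [← Finset.add_sum_erase _ _ (Finset.mem_univ l₀)]
    have h0 : m l₀ (pet B) = 0 := by have := hm0 B hB; have := hm0 B₀ hB₀; omega
    rw [h0, Nat.cast_zero, zero_add]
    obtain ⟨l, hl, rfl⟩ := hmem𝒮 B hB
    rw [← hfib l hl, Finset.card_eq_sum_ones, Nat.cast_sum, Finset.sum_filter]
    refine Finset.sum_congr rfl fun l' hl' => ?_
    have hl'0 := (Finset.mem_erase.1 hl').1
    have hB' : Sset l' ∈ 𝒮 := Finset.mem_image_of_mem _ hl'
    by_cases h : Sset l' = Sset l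
    · rw [if_pos h]
      have h1 : pet (Sset l) ∈ Sset l := hpetmem _ hB
      rw [← h] at h1 ⊢
      rw [(Finset.mem_filter.1 h1).2]
    · rw [if_neg h]
      rcases h01 l' hl'0 (pet (Sset l)) with h0' | ⟨h1, -⟩
      · simp [h0']
      · exfalso
        have h2 : pet (Sset l) ∈ Sset l' := Finset.mem_filter.2 ⟨Finset.mem_univ _, h1⟩
        rw [hpetB _ hB', Finset.mem_insert] at h2
        rcases h2 with h2 | h2
        · exact h (hpinj hB' hB h2.symm)
        · exact hpetK _ hB h2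
  -- the petals carry no `M`
  obtain ⟨μ, hμ⟩ : ∃ μ, μ = M (pet B₀) := ⟨_, rfl⟩
  obtain ⟨σ, hσ⟩ : ∃ σ, σ = ∑ χ ∈ K, M χ := ⟨_, rfl⟩
  have hMB : ∀ B ∈ 𝒮, M (pet B) + σ = (q : ℤ) * S.e := by
    intro B hB
    obtain ⟨l, hl, rfl⟩ := hmem𝒮 B hB
    rw [hσ, ← hpetal M _ hB, ← hsumS l hl, eqAM]
  have hXM : ∀ x ∈ X, M x = μ := by
    intro x hx
    rw [hX] at hx
    obtain ⟨B, hB, rfl⟩ := Finset.mem_image.1 hx
    have := hMB B hB; have := hMB B₀ hB₀
    rw [hμ]; linarith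
  have hσμ := hMB B₀ hB₀
  rw [← hμ] at hσμ
  have hμ0 : μ = 0 := by
    have hsplit1 : (∑ χ ∈ Finset.univ \ (K ∪ X), ind2 χ * M χ) + (σ + ((S.e : ℤ) + 2) * μ) =
        (q : ℤ) ^ 2 - q - 1 := by
      rw [← eqM1, ← Finset.sum_sdiff (Finset.subset_univ (K ∪ X))]
      congr 1
      rw [Finset.sum_congr rfl (s₂ := K ∪ X) (g := M) (fun χ hχ => by rw [hrows χ hχ, one_mul]),
        Finset.sum_union hdisj, Finset.sum_congr rfl (s₂ := X) (g := fun _ => μ) hXM, Finset.sum_const, hXc, hσ]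
      simp
    have hsplit2 : (∑ χ ∈ Finset.univ \ (K ∪ X), M χ ^ 2) + ((∑ χ ∈ K, M χ ^ 2) + ((S.e : ℤ) + 2) * μ ^ 2) =
        (q : ℤ) ^ 3 - (q : ℤ) ^ 2 + 1 := by
      rw [← eqM2, ← Finset.sum_sdiff (Finset.subset_univ (K ∪ X))]
      congr 1
      rw [Finset.sum_union hdisj, Finset.sum_congr rfl (s₂ := X) (g := fun _ => μ ^ 2) (fun x hx => by rw [hXM x hx]),
        Finset.sum_const, hXc]
      simp
    have h1 : -(∑ χ ∈ Finset.univ \ (K ∪ X), ind2 χ * M χ) ≤ ∑ χ ∈ Finset.univ \ (K ∪ X), M χ ^ 2 := by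
      rw [← Finset.sum_neg_distrib]
      refine Finset.sum_le_sum fun χ _ => ?_
      have h2 : |M χ| ≤ M χ ^ 2 := by rw [← sq_abs]; exact Int.le_self_sq _
      rcases ind2_cases χ with hv | hv | hv <;> rw [hv] <;> cases abs_cases (M χ) <;> nlinarith
    have h3 : 2 * (q : ℤ) * σ - (q : ℤ) ^ 2 * S.e ≤ ∑ χ ∈ K, M χ ^ 2 := by
      have h4 : (0 : ℤ) ≤ ∑ χ ∈ K, (M χ - q) ^ 2 := Finset.sum_nonneg fun χ _ => sq_nonneg _
      simp only [sub_sq] at h4
      rw [Finset.sum_add_distrib, Finset.sum_sub_distrib, Finset.sum_const, hKc, nsmul_eq_mul] at h4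
      have h5 : ∑ χ ∈ K, 2 * M χ * (q : ℤ) = 2 * (q : ℤ) * σ := by
        rw [hσ, Finset.mul_sum]; exact Finset.sum_congr rfl fun χ _ => by ring
      rw [h5] at h4
      linarith
    have hσ' : σ = (q : ℤ) * S.e - μ := by linarith
    rw [hσ'] at h3 hsplit1
    have hq' : (q : ℤ) = (S.e : ℤ) + 1 := by exact_mod_cast hqe
    rw [hq'] at h3 hsplit1 hsplit2
    have h6 : μ * (((S.e : ℤ) + 2) * μ - ((S.e : ℤ) + 1)) ≤ 0 := by nlinarith
    by_contra hne
    rcases Int.lt_or_gt_of_ne hne with hlt | hgt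
    · nlinarith
    · have h7 : (1 : ℤ) ≤ μ := hgt
      have h8 : ((S.e : ℤ) + 2) * 1 ≤ ((S.e : ℤ) + 2) * μ := mul_le_mul_of_nonneg_left h7 (by positivity)
      have h9 : (0 : ℤ) < μ * (((S.e : ℤ) + 2) * μ - ((S.e : ℤ) + 1)) := mul_pos hgt (by linarith)
      linarith
  -- so a petal is constant on an involution and `1`
  have hM0 := hM (pet B₀)
  rw [← hμ, hμ0, mul_zero] at hM0
  have hA0 := hA (pet B₀)
  rw [hApet B₀ hB₀] at hA0
  have hdT : ((d (pet B₀) : ℕ) : ℤ) = T (pet B₀) := by linarith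
  have hne1 : ((pet B₀ : IrrCharacter G) : G → ℂ) ≠ 1 := by
    intro e
    refine hχ1mem (Finset.mem_union_right _ ?_)
    rw [hX, show χ₁ = pet B₀ from Subtype.ext e.symm]
    exact Finset.mem_image_of_mem _ hB₀
  have hnc : ¬ IsMulCommutative G := by
    intro hcomm
    obtain ⟨u, -, v, -, huv⟩ := S.hna
    exact huv (hcomm.is_comm.comm u v)
  have hlt := SmallOrders.BlockDegrees.norm_lt_of_ne_one hnc (pet B₀).2 hne1 ht1
  have hcd : charDegree ((pet B₀ : IrrCharacter G) : G → ℂ) = d (pet B₀) := by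
    rw [charDegree, hd, Complex.natCast_re, Nat.floor_natCast]
  rw [hcd, hT, ← hdT, Int.cast_natCast, Complex.norm_natCast] at hlt
  exact lt_irrefl _ hlt

end Cfsg.Agent.SuzukiZass
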