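/-
Products of two involutions with different fixed points (kernel of order `q²`).

* `IsProd` : `x ≠ 1`, inverted by an involution, of odd order
* `cent_odd`, `cent_comm` : the centraliser is abelian of odd order and inverted
* `card_classes` : there are `e` classes of them
* `two_mul_fpf` : fewer than half of all elements fix no point
-/
import Cfsg.Agent.Lib.SuzukiZass.Structure
import Cfsg.Agent.EqLemmas

set_option autoImplicit false
set_option linter.style.haveILetI false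

open MulAction Cfsg.Agent.Zassenhaus

namespace Cfsg.Agent.SuzukiZass

namespace Setup

variable {G Ω : Type*} [Group G] [Finite G] [MulAction G Ω] [Finite Ω] (S : Setup G Ω)

include S

theorem sq_one {t : G} (ht : orderOf t = 2) : t * t = 1 := by
  have := pow_orderOf_eq_one t
  rwa [ht, pow_two] at this

omit S in
theorem orderOf_conj (g t : G) : orderOf (g * t * g⁻¹) = orderOf t :=
  MulEquiv.orderOf_eq (MulAut.conj g) t

theorem fix_unique {t : G} (ht : orderOf t = 2) {c d : Ω} (hc : t • c = c) (hd : t • d = d) : c = d := by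
  obtain ⟨p, -, hp⟩ := S.exists_unique_fix ht
  rw [hp c hc, hp d hd]

theorem conj_to_a (c : Ω) : ∃ g : G, g • c = S.a := by
  haveI := isPretransitive S.hZ
  exact exists_smul_eq G c S.a

theorem conj_fix {g w : G} {c : Ω} (hg : g • c = S.a) (hw : w • c = c) : (g * w * g⁻¹) • S.a = S.a := by
  rw [mul_smul, mul_smul, inv_smul_eq_iff.2 hg.symm, hw, hg]

theorem orderOf_two_pow_of_commute {w x : G} (hw : orderOf w = 2) (hc : x * w = w * x) :
    ∃ k : ℕ, orderOf x = 2 ^ k := by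
  obtain ⟨c, hwc, -⟩ := S.exists_unique_fix hw
  obtain ⟨g, hg⟩ := S.conj_to_a c
  have hgw : orderOf (g * w * g⁻¹) = 2 := by rw [orderOf_conj]; exact hw
  have hU := S.inv_mem_U hgw (S.conj_fix hg hwc)
  have hx : g * x * g⁻¹ ∈ S.U := by
    refine S.mem_U_of_commute hU (fun h => by simp [h] at hgw) ?_
    calc g * x * g⁻¹ * (g * w * g⁻¹) = g * (x * w) * g⁻¹ := by group
      _ = _ := by rw [hc]; group
  haveI := Fact.mk Nat.prime_two
  obtain ⟨k, hk⟩ := IsPGroup.iff_orderOf.1 S.hU2 ⟨_, hx⟩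
  exact ⟨k, by rw [← orderOf_conj g x, ← hk, ← Subgroup.orderOf_coe]⟩

theorem not_commute {w x : G} (hw : orderOf w = 2) (hx : Odd (orderOf x)) (hx1 : x ≠ 1) :
    x * w ≠ w * x := by
  intro hc
  obtain ⟨k, hk⟩ := S.orderOf_two_pow_of_commute hw hc
  rcases k with _ | k
  · exact hx1 (orderOf_eq_one_iff.1 (by simpa using hk))
  · rw [hk] at hx
    exact Nat.not_even_iff_odd.2 hx ((Nat.even_pow).2 ⟨even_two, by omega⟩)

/-- A non-trivial element of odd order inverted by an involution. -/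
def IsProd (_S : Setup G Ω) (x : G) : Prop :=
  x ≠ 1 ∧ Odd (orderOf x) ∧ ∃ s : G, orderOf s = 2 ∧ s * x * s⁻¹ = x⁻¹

theorem prod_comm_fix {s t : G} (hs : orderOf s = 2) (ht : orderOf t = 2) {c : Ω} (hsc : s • c = c)
    (htc : t • c = c) : (s * t) * (s * t) = 1 := by
  obtain ⟨g, hg⟩ := S.conj_to_a c
  have hsZ : g * s * g⁻¹ ∈ S.Z := by
    have ho : orderOf (g * s * g⁻¹) = 2 := by rw [orderOf_conj]; exact hs
    exact S.mem_Z.2 ⟨S.inv_mem_U ho (S.conj_fix hg hsc), S.sq_one ho⟩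
  have htZ : g * t * g⁻¹ ∈ S.Z := by
    have ho : orderOf (g * t * g⁻¹) = 2 := by rw [orderOf_conj]; exact ht
    exact S.mem_Z.2 ⟨S.inv_mem_U ho (S.conj_fix hg htc), S.sq_one ho⟩
  have h := (S.mem_Z.1 (mul_mem hsZ htZ)).2
  calc s * t * (s * t) = g⁻¹ * (g * s * g⁻¹ * (g * t * g⁻¹) * (g * s * g⁻¹ * (g * t * g⁻¹))) * g := by group
    _ = 1 := by rw [h]; group

theorem isProd_mul {s t : G} (hs : orderOf s = 2) (ht : orderOf t = 2) {c d : Ω} (hsc : s • c = c)
    (htd : t • d = d) (hcd : c ≠ d) : S.IsProd (s * t) := by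
  have hss := S.sq_one hs
  have htt := S.sq_one ht
  have hinv : s * (s * t) * s⁻¹ = (s * t)⁻¹ := by
    rw [mul_inv_rev, inv_eq_of_mul_eq_one_right htt, inv_eq_of_mul_eq_one_right hss, ← mul_assoc s s t, hss, one_mul]
  have hne : s * t ≠ 1 := fun h => hcd (S.fix_unique hs hsc (by
    rw [show s = t by rw [← inv_eq_of_mul_eq_one_left h, inv_eq_of_mul_eq_one_right htt]]; exact htd))
  refine ⟨hne, ?_, s, hs, hinv⟩
  by_contra hodd
  rw [Nat.not_odd_iff_even] at hodd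
  obtain ⟨k, hk⟩ := hodd
  set x := s * t with hx
  have hk0 : k ≠ 0 := fun h => (orderOf_pos x).ne' (by omega)
  have hw : orderOf (x ^ k) = 2 := by
    rw [orderOf_pow, hk, ← two_mul, Nat.gcd_mul_left_left,
      Nat.mul_div_cancel _ (Nat.pos_of_ne_zero hk0)]
  have hws : s * x ^ k = x ^ k * s := by
    have h1 : s * x ^ k * s⁻¹ = (x ^ k)⁻¹ := by
      rw [← conj_pow, hinv, inv_pow]
    rw [inv_eq_of_mul_eq_one_right (S.sq_one hw)] at h1
    calc s * x ^ k = s * x ^ k * s⁻¹ * s := by group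
      _ = _ := by rw [h1]
  have hwx : x * x ^ k = x ^ k * x := (Commute.self_pow x k).eq
  have hwt : t * x ^ k = x ^ k * t := by
    have h1 : t = s * x := by rw [hx, ← mul_assoc, hss, one_mul]
    rw [h1, mul_assoc, hwx, ← mul_assoc, hws, mul_assoc]
  obtain ⟨p, hp, hpu⟩ := S.exists_unique_fix hw
  have h1 : s • p = p := hpu _ (by rw [← mul_smul, ← hws, mul_smul, hp])
  have h2 : t • p = p := hpu _ (by rw [← mul_smul, ← hwt, mul_smul, hp])
  exact hcd ((S.fix_unique hs hsc h1).trans (S.fix_unique ht htd h2).symm)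

theorem isProd_split {x : G} (hx : S.IsProd x) {s : G} (hs : orderOf s = 2) (hsx : s * x * s⁻¹ = x⁻¹) :
    orderOf (s * x) = 2 ∧ s * (s * x) = x ∧ ∀ c : Ω, s • c = c → (s * x) • c ≠ c := by
  have hss := S.sq_one hs
  have hsi : s⁻¹ = s := inv_eq_of_mul_eq_one_right hss
  have hmul : s * (s * x) = x := by rw [← mul_assoc, hss, one_mul]
  have h1 : s * x * (s * x) = 1 := by
    rw [hsi] at hsx
    rw [← mul_assoc, hsx, inv_mul_cancel]
  have hne : s * x ≠ 1 := fun h => by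
    refine S.not_commute hs hx.2.1 hx.1 ?_
    rw [show x = s from (inv_eq_of_mul_eq_one_right h).symm.trans hsi]
  have ht : orderOf (s * x) = 2 := orderOf_eq_prime (by rw [pow_two]; exact h1) hne
  refine ⟨ht, hmul, fun c hc hc' => ?_⟩
  have h2 := S.prod_comm_fix hs ht hc hc'
  rw [hmul] at h2
  have h3 : orderOf x ∣ 2 := orderOf_dvd_of_pow_eq_one (by rw [pow_two]; exact h2)
  have h4 : orderOf x ≠ 1 := fun e => hx.1 (orderOf_eq_one_iff.1 e)
  have h5 : orderOf x = 2 := ((Nat.dvd_prime Nat.prime_two).1 h3).resolve_left h4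
  have h6 := hx.2.1
  rw [h5] at h6
  exact absurd h6 (by decide)

/-- The centraliser. -/
abbrev cent (_S : Setup G Ω) (x : G) : Subgroup G := Subgroup.centralizer ({x} : Set G)

theorem cent_odd {x : G} (hx : S.IsProd x) : Odd (Nat.card (S.cent x)) := by
  by_contra h
  rw [Nat.not_odd_iff_even] at h
  haveI := Fact.mk Nat.prime_two
  obtain ⟨w, hw⟩ := exists_prime_orderOf_dvd_card' (G := S.cent x) 2 h.two_dvd
  exact S.not_commute ((Subgroup.orderOf_coe w).trans hw) hx.2.1 hx.1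
    (Subgroup.mem_centralizer_singleton_iff.1 w.2).symm

theorem cent_orderOf {x y : G} (hx : S.IsProd x) (hy : y ∈ S.cent x) : Odd (orderOf y) :=
  (S.cent_odd hx).of_dvd_nat (Subgroup.orderOf_dvd_natCard (S.cent x) hy)

theorem cent_conj_mem {x : G} {s : G} (hs : orderOf s = 2) (hsx : s * x * s⁻¹ = x⁻¹) {y : G}
    (hy : y ∈ S.cent x) : s * y * s⁻¹ ∈ S.cent x := by
  rw [Subgroup.mem_centralizer_singleton_iff] at hy ⊢
  have hsi : s⁻¹ = s := inv_eq_of_mul_eq_one_right (S.sq_one hs)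
  have hxs : x = s * x⁻¹ * s⁻¹ := by rw [← hsx, hsi]; simp [mul_assoc, S.sq_one hs, ← mul_assoc s s]
  have hc : y * x⁻¹ = x⁻¹ * y := (Commute.inv_right hy).eq
  calc s * y * s⁻¹ * x = s * y * s⁻¹ * (s * x⁻¹ * s⁻¹) := by rw [← hxs]
    _ = s * (y * x⁻¹) * s⁻¹ := by group
    _ = (s * x⁻¹ * s⁻¹) * (s * y * s⁻¹) := by rw [hc]; group
    _ = x * (s * y * s⁻¹) := by rw [← hxs]

theorem cent_inverted {x : G} (hx : S.IsProd x) {s : G} (hs : orderOf s = 2) (hsx : s * x * s⁻¹ = x⁻¹)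
    {y : G} (hy : y ∈ S.cent x) : s * y * s⁻¹ = y⁻¹ := by
  have hss := S.sq_one hs
  have hsi : s⁻¹ = s := inv_eq_of_mul_eq_one_right hss
  let f : S.cent x → S.cent x := fun c =>
    ⟨(c : G)⁻¹ * (s * c * s⁻¹), mul_mem (inv_mem c.2) (S.cent_conj_mem hs hsx c.2)⟩
  have hinj : Function.Injective f := by
    intro c d h
    have h' : (c : G)⁻¹ * (s * c * s⁻¹) = (d : G)⁻¹ * (s * d * s⁻¹) := congrArg Subtype.val h
    by_contra hne
    have h2 : (d : G) * (c : G)⁻¹ ≠ 1 := fun e => hne (Subtype.ext (mul_inv_eq_one.1 e).symm)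
    refine S.not_commute hs (S.cent_orderOf hx (mul_mem d.2 (inv_mem c.2))) h2 ?_
    calc (d : G) * (c : G)⁻¹ * s = (d : G) * ((c : G)⁻¹ * (s * c * s⁻¹)) * s * (c : G)⁻¹ := by group
      _ = s * ((d : G) * (c : G)⁻¹) := by rw [h']; group
  obtain ⟨c, hc⟩ := (Finite.injective_iff_surjective.1 hinj) ⟨y, hy⟩
  have hc' : (c : G)⁻¹ * (s * c * s⁻¹) = y := congrArg Subtype.val hc
  rw [← hc', hsi]
  simp only [mul_inv_rev, inv_inv, hsi, mul_assoc, hss, mul_one]

theorem cent_comm {x : G} (hx : S.IsProd x) {y z : G} (hy : y ∈ S.cent x) (hz : z ∈ S.cent x) :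
    y * z = z * y := by
  obtain ⟨s, hs, hsx⟩ := hx.2.2
  have hi := fun {w : G} (hw : w ∈ S.cent x) => S.cent_inverted hx hs hsx hw
  have h1 : (y * z)⁻¹ = y⁻¹ * z⁻¹ := by rw [← hi (mul_mem hy hz), ← hi hy, ← hi hz]; group
  have := congrArg (·⁻¹) h1
  simpa [mul_inv_rev] using this

theorem isProd_of_mem_cent {x : G} (hx : S.IsProd x) {y : G} (hy : y ∈ S.cent x) (hy1 : y ≠ 1) :
    S.IsProd y := by
  obtain ⟨s, hs, hsx⟩ := hx.2.2
  exact ⟨hy1, S.cent_orderOf hx hy, s, hs, S.cent_inverted hx hs hsx hy⟩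

theorem cent_eq {x : G} (hx : S.IsProd x) {y : G} (hy : y ∈ S.cent x) (hy1 : y ≠ 1) :
    S.cent y = S.cent x := by
  have hy' := S.isProd_of_mem_cent hx hy hy1
  have hxy : x ∈ S.cent y :=
    Subgroup.mem_centralizer_singleton_iff.2 (Subgroup.mem_centralizer_singleton_iff.1 hy).symm
  ext z
  constructor
  · exact fun hz => Subgroup.mem_centralizer_singleton_iff.2 (S.cent_comm hy' hz hxy)
  · exact fun hz => Subgroup.mem_centralizer_singleton_iff.2 (S.cent_comm hx hz hy)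

theorem sqrt_cent {x c : G} (hx : S.IsProd x) (hc : c ∈ S.cent x) : ∃ r ∈ S.cent x, r * r = c := by
  obtain ⟨k, hk⟩ := S.cent_orderOf hx hc
  refine ⟨c ^ (k + 1), pow_mem hc _, ?_⟩
  rw [← pow_add, show k + 1 + (k + 1) = orderOf c + 1 by omega, pow_succ, pow_orderOf_eq_one, one_mul]

theorem conj_inverter {x : G} (hx : S.IsProd x) {s t : G} (hs : orderOf s = 2) (ht : orderOf t = 2)
    (hsx : s * x * s⁻¹ = x⁻¹) (htx : t * x * t⁻¹ = x⁻¹) : ∃ r ∈ S.cent x, r * s * r⁻¹ = t := by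
  have hsi : s⁻¹ = s := inv_eq_of_mul_eq_one_right (S.sq_one hs)
  have hc : t * s ∈ S.cent x := by
    rw [Subgroup.mem_centralizer_singleton_iff]
    have h3 : t * s * x * (t * s)⁻¹ = x := by
      calc t * s * x * (t * s)⁻¹ = t * (s * x * s⁻¹) * t⁻¹ := by group
        _ = (t * x * t⁻¹)⁻¹ := by rw [hsx]; group
        _ = x := by rw [htx, inv_inv]
    exact mul_inv_eq_iff_eq_mul.1 h3
  obtain ⟨r, hr, hrr⟩ := S.sqrt_cent hx hc
  refine ⟨r, hr, ?_⟩
  have h1 := S.cent_inverted hx hs hsx hr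
  calc r * s * r⁻¹ = r * (s * r⁻¹ * s⁻¹) * s := by group
    _ = r * r * s := by rw [show s * r⁻¹ * s⁻¹ = r by rw [show s * r⁻¹ * s⁻¹ = (s * r * s⁻¹)⁻¹ by group, h1, inv_inv]]
    _ = t := by rw [hrr, mul_assoc, S.sq_one hs, mul_one]

theorem class_eq {k k' : G} (hk : k ∈ S.E) (hk1 : k ≠ 1) (hk' : k' ∈ S.E) (h : IsConj k k') :
    k' = k ∨ k' = k⁻¹ := by
  obtain ⟨g, hg⟩ := isConj_iff.1 h
  have hk'1 : k' ≠ 1 := fun e => hk1 (by rw [e] at hg; simpa [mul_inv_eq_one] using hg)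
  have hfix : ∀ c : Ω, k • c = c → g • c = S.a ∨ g • c = S.b := by
    intro c hc
    refine eq_left_or_eq_right S.hZ hk'1 S.hab hk'.1 hk'.2 ?_
    rw [← hg, mul_smul, mul_smul, inv_smul_smul, hc]
  have hne : g • S.a ≠ g • S.b := fun e => S.hab (smul_left_cancel g e)
  rcases hfix S.a hk.1 with h1 | h1 <;> rcases hfix S.b hk.2 with h2 | h2
  · exact absurd (h1.trans h2.symm) hne
  · left
    rw [← hg, S.E_comm (k := g) (l := k) ⟨h1, h2⟩ hk, mul_inv_cancel_right]
  · exact Or.inr (hg ▸ S.inverts h1 h2 hk)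
  · exact absurd (h1.trans h2.symm) hne

theorem isProd_E {k : G} (hk : k ∈ S.E) (hk1 : k ≠ 1) : S.IsProd k := by
  obtain ⟨s, hs⟩ := S.exists_swap
  exact ⟨hk1, (S.odd_e).of_dvd_nat (Subgroup.orderOf_dvd_natCard S.E hk), s, hs.1,
    S.inverts hs.2 (S.invTo_swap hs) hk⟩

theorem mem_E_class {x : G} (hx : S.IsProd x) {c : Ω} (hc : x • c = c) :
    ∃ k ∈ S.E, k ≠ 1 ∧ IsConj x k := by
  obtain ⟨g, hg⟩ := S.conj_to_a c
  have hgx : (g * x * g⁻¹) • S.a = S.a := S.conj_fix hg hc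
  have hgx1 : g * x * g⁻¹ ≠ 1 := fun e => hx.1 (by simpa [mul_inv_eq_one] using e)
  have hnU : g * x * g⁻¹ ∉ S.U := by
    intro hm
    haveI := Fact.mk Nat.prime_two
    obtain ⟨k, hk⟩ := IsPGroup.iff_orderOf.1 S.hU2 ⟨_, hm⟩
    rw [← Subgroup.orderOf_coe, orderOf_conj] at hk
    have h := hx.2.1
    rw [hk] at h
    rcases k with _ | k
    · exact hx.1 (orderOf_eq_one_iff.1 (by simpa using hk))
    · exact Nat.not_even_iff_odd.2 h ((Nat.even_pow).2 ⟨even_two, by omega⟩)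
  rw [S.mem_U_iff, not_and, not_or] at hnU
  obtain ⟨-, hd⟩ := hnU hgx
  push Not at hd
  obtain ⟨d, hd, hda⟩ := hd
  obtain ⟨l, hla, hlb⟩ := exists_smul_pair S.hZ (Ne.symm hda) S.hab
  refine ⟨l * (g * x * g⁻¹) * l⁻¹, ⟨?_, ?_⟩, fun e => hgx1 (by simpa [mul_inv_eq_one] using e),
    isConj_iff.2 ⟨l * g, by group⟩⟩
  · change (l * (g * x * g⁻¹) * l⁻¹) • S.a = S.a
    rw [mul_smul, mul_smul, inv_smul_eq_iff.2 hla.symm, hgx, hla]
  · change (l * (g * x * g⁻¹) * l⁻¹) • S.b = S.b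
    rw [mul_smul, mul_smul, inv_smul_eq_iff.2 hlb.symm, hd, hlb]

theorem conj_isProd {x g : G} (hx : S.IsProd x) : S.IsProd (g * x * g⁻¹) := by
  obtain ⟨h1, h2, s, hs, hsx⟩ := hx
  refine ⟨fun e => h1 (by simpa [mul_inv_eq_one] using e), by rwa [orderOf_conj], g * s * g⁻¹,
    by rwa [orderOf_conj], ?_⟩
  calc g * s * g⁻¹ * (g * x * g⁻¹) * (g * s * g⁻¹)⁻¹ = g * (s * x * s⁻¹) * g⁻¹ := by group
    _ = _ := by rw [hsx]; group

theorem cent_fpf {x : G} (hx : S.IsProd x) (hfpf : ∀ c : Ω, x • c ≠ c) {y : G} (hy : y ∈ S.cent x)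
    (hy1 : y ≠ 1) (c : Ω) : y • c ≠ c := by
  intro hc
  rw [Subgroup.mem_centralizer_singleton_iff] at hy
  have hinv : ∀ d : Ω, y • d = d → y • (x • d) = x • d := fun d hd => by rw [← mul_smul, hy, mul_smul, hd]
  have hne : x • c ≠ c := hfpf c
  have h2 : (x ^ 2) • c = c := by
    rw [pow_two, mul_smul]
    rcases eq_left_or_eq_right S.hZ hy1 hne.symm hc (hinv c hc) (hinv _ (hinv c hc)) with h | h
    · exact h
    · exact absurd h (fun h => hne (smul_left_cancel x h))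
  obtain ⟨k, hk⟩ := hx.2.1
  have h3 : ∀ j : ℕ, ((x ^ 2) ^ j) • c = c := by
    intro j
    induction j with
    | zero => simp
    | succ j ih => rw [pow_succ, mul_smul, h2, ih]
  refine hne ?_
  have := h3 (k + 1)
  rwa [← pow_mul, show 2 * (k + 1) = orderOf x + 1 by omega, pow_succ, pow_orderOf_eq_one, one_mul] at this

theorem cent_dvd {x : G} (hx : S.IsProd x) (hfpf : ∀ c : Ω, x • c ≠ c) :
    Nat.card (S.cent x) ∣ S.h + 1 := by
  have hfree : ∀ c : Ω, stabilizer (S.cent x) c = ⊥ := by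
    intro c
    rw [eq_bot_iff]
    intro y hy
    rw [Subgroup.mem_bot]
    by_contra h
    exact S.cent_fpf hx hfpf y.2 (fun e => h (Subtype.ext e)) c hy
  rw [← S.card_Ω, Nat.card_congr (MulAction.selfEquivOrbitsQuotientProd hfree), Nat.card_prod]
  exact dvd_mul_left _ _

theorem two_mul_fpf : 2 * Nat.card {g : G // ∀ c : Ω, g • c ≠ c} < Nat.card G := by
  classical
  have := Fintype.ofFinite G
  have := Fintype.ofFinite Ω
  let F : Finset G := Finset.univ.filter fun g => ∀ c : Ω, g • c ≠ c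
  let I : Finset G := Finset.univ.filter fun g => orderOf g = 2
  let fx : G → ℕ := fun g => (Finset.univ.filter fun c : Ω => g • c = c).card
  have hsum : ∑ g : G, fx g = Nat.card G := by
    have hst : ∀ c : Ω, Nat.card (stabilizer G c) = S.h * S.e := by
      intro c
      haveI := isPretransitive S.hZ
      obtain ⟨g, rfl⟩ := exists_smul_eq G S.a c
      rw [← S.card_stab]
      exact (Nat.card_congr (MulAction.stabilizerEquivStabilizer (g := g) rfl).toEquiv).symm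
    simp only [fx, Finset.card_filter]
    rw [Finset.sum_comm, Finset.sum_congr rfl (g := fun _ => S.h * S.e) fun c _ => by
      rw [← Finset.card_filter, ← hst c, Nat.card_eq_fintype_card, ← Fintype.card_subtype]
      rfl, Finset.sum_const, Finset.card_univ, smul_eq_mul, ← Nat.card_eq_fintype_card, S.card_Ω, S.card_G]
  have hF : ∀ g ∈ F, fx g = 0 := fun g hg => by
    simp only [fx, Finset.card_eq_zero, Finset.filter_eq_empty_iff]
    exact fun c _ => (Finset.mem_filter.1 hg).2 c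
  have hI : ∀ g ∈ I, fx g = 1 := fun g hg => by
    obtain ⟨c, hc, hcu⟩ := S.exists_unique_fix (Finset.mem_filter.1 hg).2
    simp only [fx, Finset.card_eq_one]
    exact ⟨c, by ext d; simpa using ⟨hcu d, fun e => e ▸ hc⟩⟩
  have hle : ∀ g : G, fx g + (if g ∈ F then 2 else 0) + (if g ∈ I then 1 else 0) ≤
      2 + (if g = 1 then S.h + 1 else 0) := by
    intro g
    by_cases h1 : g = 1
    · subst h1
      have : (1 : G) ∉ F := fun h => (Finset.mem_filter.1 h).2 S.a (one_smul G _)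
      have h' : (1 : G) ∉ I := fun h => by simpa using (Finset.mem_filter.1 h).2
      simp only [this, h', if_false, if_true, add_zero, fx, one_smul, Finset.filter_true, Finset.card_univ,
        ← Nat.card_eq_fintype_card, S.card_Ω]
      omega
    rw [if_neg h1]
    by_cases hgF : g ∈ F
    · have : g ∉ I := fun h => by
        obtain ⟨c, hc, -⟩ := S.exists_unique_fix (Finset.mem_filter.1 h).2
        exact (Finset.mem_filter.1 hgF).2 c hc
      simp [hgF, this, hF g hgF]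
    by_cases hgI : g ∈ I
    · simp [hgF, hgI, hI g hgI]
    · simp only [hgF, hgI, if_false, add_zero]
      have h2 := card_fixedBy_le_two S.hZ h1
      rw [Nat.card_eq_fintype_card, Fintype.card_subtype] at h2
      simpa [fx, mem_fixedBy] using h2
  have hIc : I.card = (S.h + 1) * S.e := by
    rw [← S.i_eq, ← S.card_involutions, Nat.card_eq_fintype_card, Fintype.card_subtype]
  have := Finset.sum_le_sum (s := Finset.univ) fun g _ => hle g
  rw [Finset.sum_add_distrib, Finset.sum_add_distrib, hsum, Finset.sum_add_distrib, Finset.sum_const,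
    Finset.card_univ, smul_eq_mul, ← Nat.card_eq_fintype_card, Finset.sum_ite_mem, Finset.sum_ite_mem,
    Finset.univ_inter, Finset.univ_inter, Finset.sum_const, Finset.sum_const, smul_eq_mul, smul_eq_mul,
    Finset.sum_ite_eq', if_pos (Finset.mem_univ _), hIc] at this
  rw [Nat.card_eq_fintype_card (α := {g : G // _}), Fintype.card_subtype]
  have h3 := S.three_le_e
  have h4 : (S.h + 1) * 3 ≤ (S.h + 1) * S.e := Nat.mul_le_mul_left _ h3
  change 2 * F.card < _
  omega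

theorem card_classes [Fintype G] [DecidableEq (ConjClasses G)] :
    ∃ C : Finset (ConjClasses G), C.card = S.e ∧ (∀ x : G, S.IsProd x → ConjClasses.mk x ∈ C) ∧
      ∀ c ∈ C, ∃ x, S.IsProd x ∧ ConjClasses.mk x = c := by
  classical
  obtain ⟨s, hs⟩ := S.exists_swap
  obtain ⟨z₀, hz₀U, hz₀⟩ := S.exists_inv_U
  set w := s * z₀ * s⁻¹ with hwdef
  have hw : orderOf w = 2 := by rw [hwdef, orderOf_conj]; exact hz₀
  have hwb : w • S.b = S.b := by
    rw [hwdef, mul_smul, mul_smul, inv_smul_eq_iff.2 hs.2.symm, S.smul_a hz₀U, hs.2]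
  let f : {z : G // z ∈ S.Z ∧ z ≠ 1} → ConjClasses G := fun z => ConjClasses.mk (z.1 * w)
  have hzinv : ∀ z : {z : G // z ∈ S.Z ∧ z ≠ 1}, orderOf z.1 = 2 ∧ z.1 • S.a = S.a := fun z =>
    ⟨S.orderOf_Z z.2.1 z.2.2, S.smul_a (S.Z_le z.2.1)⟩
  have hsurj : ∀ x : G, S.IsProd x → ∃ z, f z = ConjClasses.mk x := by
    intro x hx
    obtain ⟨u, hu, hux⟩ := hx.2.2
    obtain ⟨hu', hmul, hne⟩ := S.isProd_split hx hu hux
    obtain ⟨c, hc, -⟩ := S.exists_unique_fix hu
    obtain ⟨d, hd, -⟩ := S.exists_unique_fix hu'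
    have hcd : c ≠ d := fun e => hne c hc (e ▸ hd)
    obtain ⟨g, hgc, hgd⟩ := exists_smul_pair S.hZ hcd S.hab
    -- second factor to `w`
    have h1 : orderOf (g * (u * x) * g⁻¹) = 2 := by rw [orderOf_conj]; exact hu'
    have h1b : (g * (u * x) * g⁻¹) • S.b = S.b := by
      rw [mul_smul, mul_smul, inv_smul_eq_iff.2 hgd.symm, hd, hgd]
    have hsg : ∀ {v : G}, orderOf v = 2 → v • S.b = S.b → s⁻¹ * v * s ∈ S.Z ∧ s⁻¹ * v * s ≠ 1 := by
      intro v hv hvb
      have h2 : orderOf (s⁻¹ * v * s) = 2 := by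
        have := orderOf_conj s⁻¹ v
        rw [inv_inv] at this
        exact this.trans hv
      have h3 : (s⁻¹ * v * s) • S.a = S.a := by
        rw [mul_smul, mul_smul, hs.2, hvb, inv_smul_eq_iff, hs.2]
      exact ⟨S.mem_Z.2 ⟨S.inv_mem_U h2 h3, S.sq_one h2⟩, fun e => by simp [e] at h2⟩
    obtain ⟨h4, h4'⟩ := hsg h1 h1b
    obtain ⟨h5, h5'⟩ := hsg hw hwb
    obtain ⟨k, hk, hkz⟩ := S.Z_trans h4 h4' h5 h5'
    obtain ⟨l, hl⟩ : ∃ l, l = s * k * s⁻¹ := ⟨_, rfl⟩
    have hlE : l ∈ S.E := by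
      rw [hl, S.inverts hs.2 (S.invTo_swap hs) hk]
      exact inv_mem hk
    have hlw : l * (g * (u * x) * g⁻¹) * l⁻¹ = w := by
      calc l * (g * (u * x) * g⁻¹) * l⁻¹ = s * (k * (s⁻¹ * (g * (u * x) * g⁻¹) * s) * k⁻¹) * s⁻¹ := by
            rw [hl]; group
        _ = w := by rw [hkz]; group
    have h6 : orderOf (l * g * u * (l * g)⁻¹) = 2 := by rw [orderOf_conj]; exact hu
    have h6a : (l * g * u * (l * g)⁻¹) • S.a = S.a :=
      S.conj_fix (by rw [mul_smul, hgc]; exact hlE.1) hc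
    refine ⟨⟨l * g * u * (l * g)⁻¹, S.mem_Z.2 ⟨S.inv_mem_U h6 h6a, S.sq_one h6⟩, fun e => by rw [e] at h6; simp at h6⟩, ?_⟩
    simp only [f]
    rw [ConjClasses.mk_eq_mk_iff_isConj, isConj_comm, isConj_iff]
    refine ⟨l * g, ?_⟩
    rw [← hlw]
    calc l * g * x * (l * g)⁻¹ = l * g * (u * (u * x)) * (l * g)⁻¹ := by rw [hmul]
      _ = _ := by group
  have hinj : Function.Injective f := by
    intro z z' h
    simp only [f, ConjClasses.mk_eq_mk_iff_isConj, isConj_iff] at h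
    obtain ⟨g, hg⟩ := h
    obtain ⟨hzo, hza⟩ := hzinv z
    obtain ⟨hz'o, hz'a⟩ := hzinv z'
    have hx := S.isProd_mul hz'o hw hz'a hwb S.hab
    have hinv : ∀ {s t : G}, orderOf s = 2 → orderOf t = 2 → s * (s * t) * s⁻¹ = (s * t)⁻¹ := fun {s t} a b => by
      rw [mul_inv_rev, inv_eq_of_mul_eq_one_right (S.sq_one a), inv_eq_of_mul_eq_one_right (S.sq_one b),
        ← mul_assoc s s t, S.sq_one a, one_mul]
    have hgs : orderOf (g * z.1 * g⁻¹) = 2 := by rw [orderOf_conj]; exact hzo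
    have h1 : (g * z.1 * g⁻¹) * (z'.1 * w) * (g * z.1 * g⁻¹)⁻¹ = (z'.1 * w)⁻¹ := by
      rw [← hg]
      calc g * z.1 * g⁻¹ * (g * (z.1 * w) * g⁻¹) * (g * z.1 * g⁻¹)⁻¹
          = g * (z.1 * (z.1 * w) * (z.1)⁻¹) * g⁻¹ := by group
        _ = _ := by rw [hinv hzo hw]; group
    obtain ⟨r, hr, hrz⟩ := S.conj_inverter hx hgs hz'o h1 (hinv hz'o hw)
    rw [Subgroup.mem_centralizer_singleton_iff] at hr
    obtain ⟨k, hk⟩ : ∃ k, k = r * g := ⟨_, rfl⟩
    have hkz : k * z.1 * k⁻¹ = z'.1 := by rw [← hrz, hk]; group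
    have hkw : k * w * k⁻¹ = w := by
      have h2 : k * (z.1 * w) * k⁻¹ = z'.1 * w := by
        calc k * (z.1 * w) * k⁻¹ = r * (g * (z.1 * w) * g⁻¹) * r⁻¹ := by rw [hk]; group
          _ = z'.1 * w := by rw [hg, hr, mul_inv_cancel_right]
      have h3 : k * (z.1 * w) * k⁻¹ = z'.1 * (k * w * k⁻¹) := by rw [← hkz]; group
      exact mul_left_cancel (h3.symm.trans h2)
    have hka : k • S.a = S.a := by
      refine S.fix_unique hz'o ?_ hz'a
      rw [← hkz, mul_smul, mul_smul, inv_smul_smul, hza]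
    have hkb : k • S.b = S.b := by
      refine S.fix_unique hw ?_ hwb
      conv_lhs => rw [← hkw, mul_smul, mul_smul, inv_smul_smul, hwb]
    have hk1 : k = 1 := by
      by_contra hk1
      exact S.not_commute hw (S.isProd_E ⟨hka, hkb⟩ hk1).2.1 hk1 (mul_inv_eq_iff_eq_mul.1 hkw)
    rw [hk1, one_mul, inv_one, mul_one] at hkz
    exact Subtype.ext hkz
  haveI := Fintype.ofFinite {z : G // z ∈ S.Z ∧ z ≠ 1}
  refine ⟨Finset.univ.image f, ?_, fun x hx => ?_, fun c hc => ?_⟩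
  · rw [Finset.card_image_of_injective _ hinj, Finset.card_univ, ← Nat.card_eq_fintype_card, S.card_Z_ne]
  · obtain ⟨z, hz⟩ := hsurj x hx
    exact Finset.mem_image.2 ⟨z, Finset.mem_univ _, hz⟩
  · obtain ⟨z, -, rfl⟩ := Finset.mem_image.1 hc
    exact ⟨_, S.isProd_mul (hzinv z).1 hw (hzinv z).2 hwb S.hab, rfl⟩

end Setup

end Cfsg.Agent.SuzukiZass
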