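/-
The Diophantine step for Zassenhaus groups of Suzuki type.

* `vieta` : `a² + b² + 8 = 4 (a + b) + λ a b` with `a`, `b` odd forces `λ = 2`
* `odd_exponent` : two coprime divisors of `q² + 1`, `q = 2^m`, with sum `2 q + 2` force `m` odd
-/
import Mathlib
import Cfsg.Agent.EqLemmas

set_option autoImplicit false

namespace Cfsg.Agent.SuzukiZass

theorem vieta_aux : ∀ (N a b lam : ℕ), a + b ≤ N → Odd a → Odd b →
    a ^ 2 + b ^ 2 + 8 = 4 * (a + b) + lam * (a * b) → lam = 2 := by
  intro N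
  induction N with
  | zero => intro a b lam h ha; obtain ⟨k, hk⟩ := ha; omega
  | succ N ih =>
    have key : ∀ a b lam : ℕ, a + b ≤ N + 1 → Odd a → Odd b → b ≤ a →
        a ^ 2 + b ^ 2 + 8 = 4 * (a + b) + lam * (a * b) → lam = 2 := by
      intro a b lam hN ha hb hle heq
      have heq' : (a : ℤ) ^ 2 + (b : ℤ) ^ 2 + 8 = 4 * ((a : ℤ) + b) + (lam : ℤ) * ((a : ℤ) * b) := by
        exact_mod_cast heq
      rcases eq_or_lt_of_le hle with rfl | hlt
      · have hdvd : b ∣ 8 := by
          have h1 : (b : ℤ) ∣ 8 := ⟨8 + (lam : ℤ) * b - 2 * b, by linear_combination heq'⟩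
          exact_mod_cast h1
        have : b = 1 := by
          obtain ⟨k, hk⟩ := hb
          have := Nat.le_of_dvd (by norm_num) hdvd
          interval_cases b <;> omega
        subst this
        omega
      · by_cases hb1 : b = 1
        · subst hb1
          have h1 : (a : ℤ) ∣ 5 := ⟨4 + (lam : ℤ) - a, by push_cast at heq'; linear_combination heq'⟩
          have h2 : a ∣ 5 := by exact_mod_cast h1
          have := Nat.le_of_dvd (by norm_num) h2
          obtain ⟨k, hk⟩ := ha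
          interval_cases a <;> omega
        have hb3 : 3 ≤ b := by obtain ⟨k, hk⟩ := hb; omega
        obtain ⟨c, hc⟩ : ∃ c : ℤ, c = (lam : ℤ) * b + 4 - a := ⟨_, rfl⟩
        have hmul : (a : ℤ) * c = (b : ℤ) ^ 2 - 4 * b + 8 := by
          rw [hc]; linear_combination -heq'
        have hcpos : 0 < c := by
          have h1 : (0 : ℤ) < (a : ℤ) * c := by rw [hmul]; nlinarith [sq_nonneg ((b : ℤ) - 2)]
          exact (mul_pos_iff_of_pos_left (by exact_mod_cast ha.pos)).1 h1
        have hclt : c < b := by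
          have h1 : (b : ℤ) + 1 ≤ a := by exact_mod_cast hlt
          by_contra hcon
          push Not at hcon
          have h2 : ((b : ℤ) + 1) * b ≤ (a : ℤ) * c := mul_le_mul h1 hcon (by positivity) (by positivity)
          rw [hmul] at h2
          nlinarith
        lift c to ℕ using hcpos.le
        have hodd : Odd c := by
          have h1 : Odd ((a : ℤ) * c) := by
            rw [hmul]
            obtain ⟨k, hk⟩ := hb
            exact ⟨2 * (k : ℤ) ^ 2 - 2 * k + 2, by rw [hk]; push_cast; ring⟩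
          exact_mod_cast (Int.odd_mul.1 h1).2
        refine ih c b lam ?_ hodd hb ?_
        · have : c < b := by exact_mod_cast hclt
          omega
        · have h2 : (c : ℤ) ^ 2 + (b : ℤ) ^ 2 + 8 = 4 * ((c : ℤ) + b) + (lam : ℤ) * ((c : ℤ) * b) := by
            have h3 : (c : ℤ) + a = (lam : ℤ) * b + 4 := by linarith
            linear_combination heq' + ((c : ℤ) - a) * h3
          exact_mod_cast h2
    intro a b lam hN ha hb heq
    rcases le_total b a with h | h
    · exact key a b lam hN ha hb h heq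
    · exact key b a lam (by omega) hb ha h (by linear_combination heq)

theorem vieta {a b lam : ℕ} (ha : Odd a) (hb : Odd b)
    (h : a ^ 2 + b ^ 2 + 8 = 4 * (a + b) + lam * (a * b)) : lam = 2 :=
  vieta_aux _ a b lam le_rfl ha hb h

theorem odd_exponent {m a b : ℕ} (ha : Odd a) (hb : Odd b) (hco : a.Coprime b)
    (han : a ∣ (2 ^ m) ^ 2 + 1) (hbn : b ∣ (2 ^ m) ^ 2 + 1) (hsum : a + b = 2 * 2 ^ m + 2) : Odd m := by
  obtain ⟨j, hj⟩ := hco.mul_dvd_of_dvd_of_dvd han hbn
  obtain ⟨q, hq⟩ : ∃ q, q = 2 ^ m := ⟨_, rfl⟩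
  rw [← hq] at hj hsum
  have hj0 : 1 ≤ j := by rcases j with _ | j <;> [simp at hj; omega]
  have hjz : (q : ℤ) ^ 2 + 1 = (a : ℤ) * b * j := by exact_mod_cast hj
  have hsz : (a : ℤ) + b = 2 * (q : ℤ) + 2 := by exact_mod_cast hsum
  have h1 : a ^ 2 + b ^ 2 + 8 = 4 * (a + b) + (4 * j - 2) * (a * b) := by
    have h2 : (a : ℤ) ^ 2 + (b : ℤ) ^ 2 + 8 = 4 * ((a : ℤ) + b) + (4 * (j : ℤ) - 2) * ((a : ℤ) * b) := by
      linear_combination ((a : ℤ) + b + 2 * q - 2) * hsz + 4 * hjz
    have h3 : ((4 * j - 2 : ℕ) : ℤ) = 4 * (j : ℤ) - 2 := by omega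
    rw [← h3] at h2
    exact_mod_cast h2
  have hj1 : j = 1 := by have := vieta ha hb h1; omega
  subst hj1
  have h4 : ((a : ℤ) - b) ^ 2 = 2 ^ (m + 3) := by
    have : (q : ℤ) = 2 ^ m := by exact_mod_cast hq
    rw [pow_add, ← this]
    push_cast at hjz
    linear_combination ((a : ℤ) + b + 2 * q + 2) * hsz + 4 * hjz
  have h5 : ((a : ℤ) - b).natAbs ^ 2 = 2 ^ (m + 3) := by
    rw [← Int.natAbs_pow, h4, Int.natAbs_pow]; rfl
  obtain ⟨k, -, hk⟩ := (Nat.dvd_prime_pow Nat.prime_two).1 (h5 ▸ dvd_pow_self ((a : ℤ) - b).natAbs two_ne_zero)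
  rw [hk, ← pow_mul] at h5
  have := Nat.pow_right_injective le_rfl h5
  exact Nat.odd_iff.2 (by omega)

end Cfsg.Agent.SuzukiZass
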