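/-
Kernel of order `q²`, `q = 2^m`: the exponent `m` is odd.

* `exponent_odd`

The centralisers of the fixed-point-free products of two involutions are abelian TI Hall subgroups;
counting their classes and elements leaves exactly two of them, of orders summing to `2 q + 2`.
-/
import Cfsg.Agent.Lib.SuzukiZass.Products
import Cfsg.Agent.Lib.SuzukiZass.Vieta
import Cfsg.Agent.Lib.Char.Orth
import Cfsg.Agent.EqLemmas

set_option autoImplicit false
set_option linter.style.haveILetI false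

open MulAction Cfsg.Agent.Zassenhaus

namespace Cfsg.Agent.SuzukiZass

namespace Setup

variable {G Ω : Type*} [Group G] [Finite G] [MulAction G Ω] [Finite Ω] (S : Setup G Ω)

include S

theorem roots_coset (hh : S.h = S.q ^ 2) {u v z : G} (hu : u ∈ S.U) (hz : z ∈ S.Z) (hz1 : z ≠ 1)
    (huu : u * u = z) (hvv : v * v = z) : u⁻¹ * v ∈ S.Z := by
  classical
  have := Fintype.ofFinite G
  let R := {g : G // g * g = z}
  let f : S.Z → R := fun w => ⟨u * w, by
    have h1 := S.Z_central w.2 hu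
    have h2 := (S.mem_Z.1 w.2).2
    calc u * (w : G) * (u * w) = u * ((w : G) * u) * w := by group
      _ = (u * u) * ((w : G) * w) := by rw [← h1]; group
      _ = z := by rw [h2, huu, mul_one]⟩
  have hf : Function.Bijective f := by
    refine (Nat.bijective_iff_injective_and_card f).2 ⟨fun w w' h => Subtype.ext (mul_left_cancel (congrArg Subtype.val h)), ?_⟩
    rw [S.card_Z]
    have h1 := S.card_roots hz hz1
    rw [hh] at h1
    refine Nat.eq_of_mul_eq_mul_left S.e_pos (Eq.trans ?_ h1.symm)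
    rw [q, show (S.e + 1) ^ 2 = S.e * (S.e + 1) + (S.e + 1) by ring, Nat.add_sub_cancel]
  obtain ⟨w, hw⟩ := hf.2 ⟨v, hvv⟩
  have : u * (w : G) = v := congrArg Subtype.val hw
  rw [← this, inv_mul_cancel_left]
  exact w.2

theorem card_le_four (hh : S.h = S.q ^ 2) (L : Subgroup G) (hL : L ≤ S.U) {z : G} (hz : z ∈ L)
    (hzo : orderOf z = 2) (huniq : ∀ w ∈ L, orderOf w = 2 → w = z) :
    Nat.card L = 2 ∨ Nat.card L = 4 := by
  classical
  have hz1 : z ≠ 1 := fun e => by simp [e] at hzo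
  have heven : 2 ∣ Nat.card L := hzo ▸ Subgroup.orderOf_dvd_natCard L hz
  have hin : ∀ w ∈ L, w * w = 1 → w = 1 ∨ w = z := fun w hw hww => by
    by_cases h1 : w = 1
    · exact Or.inl h1
    · exact Or.inr (huniq w hw (orderOf_eq_prime (by rw [pow_two]; exact hww) h1))
  have hzZ : z ∈ S.Z := S.mem_Z.2 ⟨hL hz, S.sq_one hzo⟩
  have := Fintype.ofFinite G
  have hcard : Nat.card L ≤ 4 := by
    rw [Nat.card_eq_fintype_card, Fintype.card_subtype]
    by_cases h : ∃ u ∈ L, u * u = z
    · obtain ⟨u, hu, huu⟩ := h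
      refine (Finset.card_le_card (t := {1, z, u, u * z}) ?_).trans Finset.card_le_four
      intro v hv
      simp only [Finset.mem_filter, Finset.mem_univ, true_and] at hv
      simp only [Finset.mem_insert, Finset.mem_singleton]
      have hvv : (v * v) * (v * v) = 1 := (S.mem_Z.1 (S.sq_mem (hL hv))).2
      rcases hin _ (mul_mem hv hv) hvv with h1 | h1
      · rcases hin v hv h1 with h2 | h2
        · exact Or.inl h2
        · exact Or.inr (Or.inl h2)
      · have h2 := S.roots_coset hh (hL hu) hzZ hz1 huu h1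
        rcases hin _ (mul_mem (inv_mem hu) hv) (S.mem_Z.1 h2).2 with h3 | h3
        · exact Or.inr (Or.inr (Or.inl (inv_mul_eq_one.1 h3).symm))
        · exact Or.inr (Or.inr (Or.inr (by rw [← h3, mul_inv_cancel_left])))
    · refine (Finset.card_le_card (t := ({1, z} : Finset G)) ?_).trans (Finset.card_le_two.trans (by norm_num))
      intro v hv
      simp only [Finset.mem_filter, Finset.mem_univ, true_and] at hv
      simp only [Finset.mem_insert, Finset.mem_singleton]
      have hvv : (v * v) * (v * v) = 1 := (S.mem_Z.1 (S.sq_mem (hL hv))).2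
      rcases hin _ (mul_mem hv hv) hvv with h1 | h1
      · exact hin v hv h1
      · exact absurd ⟨v, hv, h1⟩ h
  have hpos : 0 < Nat.card L := Nat.card_pos
  omega

/-- The part of the normaliser commuting with an inverting involution. -/
theorem exists_L (hh : S.h = S.q ^ 2) {x : G} (hx : S.IsProd x) (hfpf : ∀ c : Ω, x • c ≠ c) :
    ∃ L : Subgroup G, (Nat.card L = 2 ∨ Nat.card L = 4) ∧
      (∀ l ∈ L, ∀ y ∈ S.cent x, l * y * l⁻¹ ∈ S.cent x) ∧
      (∀ l ∈ L, ∀ y ∈ S.cent x, y ≠ 1 → l * y * l⁻¹ = y → l = 1) ∧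
      ∀ y ∈ S.cent x, ∀ y' ∈ S.cent x, y ≠ 1 → IsConj y y' → ∃ l ∈ L, l * y * l⁻¹ = y' := by
  obtain ⟨s, hs, hsx⟩ := hx.2.2
  have hsi : s⁻¹ = s := inv_eq_of_mul_eq_one_right (S.sq_one hs)
  have hinv := fun {w : G} (hw : w ∈ S.cent x) => S.cent_inverted hx hs hsx hw
  let L := Subgroup.normalizer ((S.cent x : Subgroup G) : Set G) ⊓ Subgroup.centralizer ({s} : Set G)
  have hLn : ∀ l ∈ L, ∀ y ∈ S.cent x, l * y * l⁻¹ ∈ S.cent x := fun l hl y hy =>
    (Subgroup.mem_normalizer_iff.1 hl.1 y).1 hy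
  have hLs : ∀ l ∈ L, l * s = s * l := fun l hl => Subgroup.mem_centralizer_singleton_iff.1 hl.2
  have hsL : s ∈ L := by
    refine ⟨Subgroup.mem_normalizer_iff.2 fun y => ⟨fun hy => ?_, fun hy => ?_⟩,
      Subgroup.mem_centralizer_singleton_iff.2 rfl⟩
    · rw [hinv hy]; exact inv_mem hy
    · have h := S.cent_conj_mem hs hsx hy
      rwa [hsi, show s * (s * y * s) * s = (s * s) * y * (s * s) by group, S.sq_one hs, one_mul, mul_one] at h
  have hfree : ∀ l ∈ L, ∀ y ∈ S.cent x, y ≠ 1 → l * y * l⁻¹ = y → l = 1 := by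
    intro l hl y hy hy1 hly
    have hlx : l ∈ S.cent x := by
      rw [← S.cent_eq hx hy hy1]
      exact Subgroup.mem_centralizer_singleton_iff.2 (mul_inv_eq_iff_eq_mul.1 hly)
    by_contra h1
    exact S.not_commute hs (S.cent_orderOf hx hlx) h1 (hLs l hl)
  have hLuniq : ∀ w ∈ L, orderOf w = 2 → w = s := by
    intro w hw hwo
    have hwi : w⁻¹ = w := inv_eq_of_mul_eq_one_right (S.sq_one hwo)
    have hwinv : ∀ y ∈ S.cent x, w * y * w⁻¹ = y⁻¹ := by
      intro y hy
      by_contra hne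
      set d := y * (w * y * w⁻¹) with hd
      have hdA : d ∈ S.cent x := mul_mem hy (hLn w hw y hy)
      have hd1 : d ≠ 1 := fun e => hne (eq_inv_of_mul_eq_one_right e)
      refine hd1 (False.elim ?_)
      have hwd : w * d * w⁻¹ = d := by
        rw [hd, S.cent_comm hx hy (hLn w hw y hy)]
        simp only [hwi, mul_assoc]
        simp only [← mul_assoc w w, S.sq_one hwo, one_mul, mul_one]
        have h2 := S.cent_comm hx hy (hLn w hw y hy)
        simp only [hwi, mul_assoc] at h2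
        exact h2
      have := hfree w hw d hdA hd1 hwd
      rw [this] at hwo
      simp at hwo
    have hws : w * s ∈ S.cent x := by
      rw [Subgroup.mem_centralizer_singleton_iff]
      refine mul_inv_eq_iff_eq_mul.1 ?_
      calc w * s * x * (w * s)⁻¹ = w * (s * x * s⁻¹) * w⁻¹ := by group
        _ = (w * x * w⁻¹)⁻¹ := by rw [hsx]; group
        _ = x := by rw [hwinv x (Subgroup.mem_centralizer_singleton_iff.2 rfl), inv_inv]
    have hcomm : w * s * s = s * (w * s) := by rw [← mul_assoc s w s, ← hLs w hw]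
    have : w * s = 1 := by
      by_contra h1
      exact S.not_commute hs (S.cent_orderOf hx hws) h1 hcomm
    rw [← inv_eq_of_mul_eq_one_left this, hsi]
  refine ⟨L, ?_, hLn, hfree, ?_⟩
  · obtain ⟨c, hc, -⟩ := S.exists_unique_fix hs
    obtain ⟨g, hg⟩ := S.conj_to_a c
    have hgs : orderOf (g * s * g⁻¹) = 2 := by rw [orderOf_conj]; exact hs
    have hgsU := S.inv_mem_U hgs (S.conj_fix hg hc)
    have he : Nat.card (L.map (MulAut.conj g).toMonoidHom) = Nat.card L :=
      (Nat.card_congr (L.equivMapOfInjective _ (MulAut.conj g).injective).toEquiv).symm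
    rw [← he]
    refine S.card_le_four hh _ ?_ ⟨s, hsL, rfl⟩ hgs ?_
    · rintro _ ⟨l, hl, rfl⟩
      refine S.mem_U_of_commute hgsU (fun e => by rw [e] at hgs; simp at hgs) ?_
      change g * l * g⁻¹ * (g * s * g⁻¹) = g * s * g⁻¹ * (g * l * g⁻¹)
      calc g * l * g⁻¹ * (g * s * g⁻¹) = g * (l * s) * g⁻¹ := by group
        _ = _ := by rw [hLs l hl]; group
    · rintro _ ⟨l, hl, rfl⟩ hlo
      change orderOf (g * l * g⁻¹) = 2 at hlo
      rw [orderOf_conj] at hlo
      change g * l * g⁻¹ = g * s * g⁻¹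
      rw [hLuniq l hl hlo]
  · intro y hy y' hy' hy1 hyy'
    obtain ⟨g, hg⟩ := isConj_iff.1 hyy'
    have hy'1 : y' ≠ 1 := fun e => hy1 (by rw [e] at hg; simpa [mul_inv_eq_one] using hg)
    have hgn : ∀ z, z ∈ S.cent x ↔ g * z * g⁻¹ ∈ S.cent x := by
      intro z
      conv_lhs => rw [← S.cent_eq hx hy hy1]
      conv_rhs => rw [← S.cent_eq hx hy' hy'1]
      rw [Subgroup.mem_centralizer_singleton_iff, Subgroup.mem_centralizer_singleton_iff, ← hg]
      constructor
      · intro h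
        calc g * z * g⁻¹ * (g * y * g⁻¹) = g * (z * y) * g⁻¹ := by group
          _ = _ := by rw [h]; group
      · intro h
        calc z * y = g⁻¹ * (g * z * g⁻¹ * (g * y * g⁻¹)) * g := by group
          _ = y * z := by rw [h]; group
    have hgs : orderOf (g * s * g⁻¹) = 2 := by rw [orderOf_conj]; exact hs
    have hgsinv : (g * s * g⁻¹) * x * (g * s * g⁻¹)⁻¹ = x⁻¹ := by
      have hz : g⁻¹ * x * g ∈ S.cent x := by
        rw [hgn, show g * (g⁻¹ * x * g) * g⁻¹ = x by group]
        exact Subgroup.mem_centralizer_singleton_iff.2 rfl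
      calc g * s * g⁻¹ * x * (g * s * g⁻¹)⁻¹ = g * (s * (g⁻¹ * x * g) * s⁻¹) * g⁻¹ := by group
        _ = _ := by rw [hinv hz]; group
    obtain ⟨r, hr, hrs⟩ := S.conj_inverter hx hgs hs hgsinv hsx
    refine ⟨r * g, ⟨mul_mem ?_ (Subgroup.mem_normalizer_iff.2 hgn), ?_⟩, ?_⟩
    · refine Subgroup.mem_normalizer_iff.2 fun z => ⟨fun hz => mul_mem (mul_mem hr hz) (inv_mem hr), fun hz => ?_⟩
      have := mul_mem (mul_mem (inv_mem hr) hz) hr
      rwa [show r⁻¹ * (r * z * r⁻¹) * r = z by group] at this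
    · change r * g ∈ Subgroup.centralizer ({s} : Set G)
      rw [Subgroup.mem_centralizer_singleton_iff]
      refine mul_inv_eq_iff_eq_mul.1 ?_
      calc r * g * s * (r * g)⁻¹ = r * (g * s * g⁻¹) * r⁻¹ := by group
        _ = s := hrs
    · calc r * g * y * (r * g)⁻¹ = r * (g * y * g⁻¹) * r⁻¹ := by group
        _ = y' := by rw [hg, S.cent_comm hx hr hy', mul_inv_cancel_right]

theorem exponent_odd {m : ℕ} (hh : S.h = S.q ^ 2) (hm : S.q = 2 ^ m) : Odd m := by
  classical
  have := Fintype.ofFinite G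
  obtain ⟨C, hCc, hC, hCrep⟩ := S.card_classes
  let CL : G → ConjClasses G := ConjClasses.mk
  let Q : Finset (ConjClasses G) := C.filter fun c => ∀ x : G, CL x = c → ∀ p : Ω, x • p ≠ p
  have he3 := S.three_le_e
  -- half of the classes are fixed-point-free
  have hQc : 2 * Q.card = S.q := by
    let E1 : Finset G := Finset.univ.filter fun k => k ∈ S.E ∧ k ≠ 1
    have hE1 : E1.card + 1 = S.e := by
      have : E1 = (Finset.univ.filter fun k => k ∈ S.E).erase 1 := by ext k; simp [E1, and_comm]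
      rw [this, Finset.card_erase_add_one (by simp [S.E.one_mem]), ← Fintype.card_subtype, ← Nat.card_eq_fintype_card]
      rfl
    have hfib : ∀ c ∈ E1.image CL, (E1.filter fun k => CL k = c).card = 2 := by
      intro c hc
      obtain ⟨k, hk, rfl⟩ := Finset.mem_image.1 hc
      simp only [E1, Finset.mem_filter, Finset.mem_univ, true_and] at hk
      have hne : k ≠ k⁻¹ := fun e => by
        have h1 : orderOf k ∣ 2 := orderOf_dvd_of_pow_eq_one (by rw [pow_two]; nth_rewrite 2 [e]; exact mul_inv_cancel k)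
        have h2 := (S.isProd_E hk.1 hk.2).2.1
        rcases (Nat.dvd_prime Nat.prime_two).1 h1 with h3 | h3
        · exact hk.2 (orderOf_eq_one_iff.1 h3)
        · rw [h3] at h2; exact absurd h2 (by decide)
      rw [Finset.card_eq_two]
      refine ⟨k, k⁻¹, hne, ?_⟩
      ext k'
      simp only [E1, Finset.mem_filter, Finset.mem_univ, true_and, Finset.mem_insert, Finset.mem_singleton, CL,
        ConjClasses.mk_eq_mk_iff_isConj]
      constructor
      · exact fun h => S.class_eq hk.1 hk.2 h.1.1 h.2.symm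
      · rintro (rfl | rfl)
        · exact ⟨hk, IsConj.refl _⟩
        · obtain ⟨s, hs⟩ := S.exists_swap
          refine ⟨⟨inv_mem hk.1, fun e => hk.2 (inv_eq_one.1 e)⟩, (isConj_iff.2 ⟨s, ?_⟩).symm⟩
          exact S.inverts hs.2 (S.invTo_swap hs) hk.1
    have h1 := Finset.card_eq_sum_card_image CL E1
    rw [Finset.sum_congr rfl hfib, Finset.sum_const, smul_eq_mul] at h1
    have hsub : E1.image CL ⊆ C := by
      intro c hc
      obtain ⟨k, hk, rfl⟩ := Finset.mem_image.1 hc
      simp only [E1, Finset.mem_filter, Finset.mem_univ, true_and] at hk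
      exact hC k (S.isProd_E hk.1 hk.2)
    have hQeq : Q = C \ E1.image CL := by
      ext c
      simp only [Q, Finset.mem_sdiff, Finset.mem_filter]
      refine and_congr_right fun hc => ⟨fun h hmem => ?_, fun h x hxc p hp => ?_⟩
      · obtain ⟨k, hk, rfl⟩ := Finset.mem_image.1 hmem
        exact h k rfl S.a (Finset.mem_filter.1 hk).2.1.1
      · obtain ⟨y, hy, hyc⟩ := hCrep c hc
        have hconj : IsConj y x := ConjClasses.mk_eq_mk_iff_isConj.1 (hyc.trans hxc.symm)
        obtain ⟨g, rfl⟩ := isConj_iff.1 hconj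
        obtain ⟨k, hk, hk1, hxk⟩ := S.mem_E_class (S.conj_isProd (g := g) hy) hp
        refine h (Finset.mem_image.2 ⟨k, ?_, ?_⟩)
        · simp [E1, hk, hk1]
        · rw [← hxc]; exact ConjClasses.mk_eq_mk_iff_isConj.2 hxk.symm
    rw [hQeq, Finset.card_sdiff_of_subset hsub, hCc, q]
    have := Finset.card_le_card hsub
    omega
  -- representatives
  have hrep : ∀ c ∈ Q, ∃ x, S.IsProd x ∧ (∀ p : Ω, x • p ≠ p) ∧ CL x = c := by
    intro c hc
    obtain ⟨x, hx, hxc⟩ := hCrep c (Finset.mem_filter.1 hc).1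
    exact ⟨x, hx, (Finset.mem_filter.1 hc).2 x hxc, hxc⟩
  let A1 : G → Finset G := fun x => Finset.univ.filter fun y => y ∈ S.cent x ∧ y ≠ 1
  let Qs : G → Finset (ConjClasses G) := fun x => (A1 x).image CL
  let a : G → ℕ := fun x => Nat.card (S.cent x)
  let Good : G → Prop := fun x => S.IsProd x ∧ ∀ p : Ω, x • p ≠ p
  have hmemA1 : ∀ {x y : G}, y ∈ A1 x ↔ y ∈ S.cent x ∧ y ≠ 1 := by intro x y; simp [A1]
  have hQsub : ∀ x, Good x → Qs x ⊆ Q := by
    intro x hx c hc
    obtain ⟨y, hy, rfl⟩ := Finset.mem_image.1 hc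
    obtain ⟨hy, hy1⟩ := hmemA1.1 hy
    refine Finset.mem_filter.2 ⟨hC y (S.isProd_of_mem_cent hx.1 hy hy1), fun z hz p hp => ?_⟩
    obtain ⟨g, rfl⟩ := isConj_iff.1 (ConjClasses.mk_eq_mk_iff_isConj.1 hz.symm)
    refine S.cent_fpf hx.1 hx.2 hy hy1 (g⁻¹ • p) ?_
    rw [mul_smul, mul_smul] at hp
    exact eq_inv_smul_iff.2 hp
  have hself : ∀ x, Good x → CL x ∈ Qs x := fun x hx =>
    Finset.mem_image.2 ⟨x, hmemA1.2 ⟨Subgroup.mem_centralizer_singleton_iff.2 rfl, hx.1.1⟩, rfl⟩
  have ha_odd : ∀ x, Good x → Odd (a x) := fun x hx => S.cent_odd hx.1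
  have ha_dvd : ∀ x, Good x → a x ∣ (2 ^ m) ^ 2 + 1 := by
    intro x hx
    have h := S.cent_dvd hx.1 hx.2
    rwa [hh, hm] at h
  have hA1card : ∀ x, (A1 x).card + 1 = a x := by
    intro x
    have : A1 x = (Finset.univ.filter fun y => y ∈ S.cent x).erase 1 := by ext y; simp [A1, and_comm]
    rw [this, Finset.card_erase_add_one (by simp), ← Fintype.card_subtype, ← Nat.card_eq_fintype_card]
  have hQscard : ∀ x, Good x → ∃ l, (l = 2 ∨ l = 4) ∧ (Qs x).card * l + 1 = a x := by
    intro x hx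
    obtain ⟨L, hL, hLn, hfree, hfus⟩ := S.exists_L hh hx.1 hx.2
    refine ⟨Nat.card L, hL, ?_⟩
    have hfib : ∀ c ∈ Qs x, ((A1 x).filter fun y => CL y = c).card = Nat.card L := by
      intro c hc
      obtain ⟨y, hy, rfl⟩ := Finset.mem_image.1 hc
      obtain ⟨hy, hy1⟩ := hmemA1.1 hy
      rw [← Fintype.card_coe, ← Nat.card_eq_fintype_card]
      have hmem : ∀ l : L, (l : G) * y * (l : G)⁻¹ ∈ (A1 x).filter fun z => CL z = CL y := fun l =>
        Finset.mem_filter.2 ⟨hmemA1.2 ⟨hLn l l.2 y hy, fun e => hy1 (by simpa [mul_inv_eq_one] using e)⟩,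
          (ConjClasses.mk_eq_mk_iff_isConj.2 (isConj_iff.2 ⟨(l : G), rfl⟩)).symm⟩
      refine (Nat.card_eq_of_bijective (fun l : L => (⟨_, hmem l⟩ : {z // z ∈ (A1 x).filter fun z => CL z = CL y})) ⟨?_, ?_⟩).symm
      · intro l l' h
        have h' : (l : G) * y * (l : G)⁻¹ = (l' : G) * y * (l' : G)⁻¹ := congrArg Subtype.val h
        have h2 := hfree ((l' : G)⁻¹ * l) (mul_mem (inv_mem l'.2) l.2) y hy hy1 (by
          calc (l' : G)⁻¹ * l * y * ((l' : G)⁻¹ * l)⁻¹ = (l' : G)⁻¹ * ((l : G) * y * (l : G)⁻¹) * l' := by group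
            _ = y := by rw [h']; group)
        exact Subtype.ext (inv_mul_eq_one.1 h2).symm
      · rintro ⟨y', hy'⟩
        obtain ⟨hy'A, hy'c⟩ := Finset.mem_filter.1 hy'
        obtain ⟨l, hl, hly⟩ := hfus y hy y' (hmemA1.1 hy'A).1 hy1 (ConjClasses.mk_eq_mk_iff_isConj.1 hy'c).symm
        exact ⟨⟨l, hl⟩, Subtype.ext hly⟩
    rw [← hA1card, Finset.card_eq_sum_card_image CL (A1 x), Finset.sum_congr rfl hfib, Finset.sum_const, smul_eq_mul]
  have hmeet : ∀ x x', Good x → Good x' → ∀ y y', y ∈ S.cent x → y ≠ 1 → y' ∈ S.cent x' → IsConj y y' →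
      Qs x = Qs x' := by
    intro x x' hx hx' y y' hy hy1 hy' h
    obtain ⟨g, hg⟩ := isConj_iff.1 h
    have hy'1 : y' ≠ 1 := fun e => hy1 (by rw [e] at hg; simpa [mul_inv_eq_one] using hg)
    have hiff : ∀ z, z ∈ S.cent x ↔ g * z * g⁻¹ ∈ S.cent x' := by
      intro z
      conv_lhs => rw [← S.cent_eq hx.1 hy hy1]
      conv_rhs => rw [← S.cent_eq hx'.1 hy' hy'1]
      rw [Subgroup.mem_centralizer_singleton_iff, Subgroup.mem_centralizer_singleton_iff, ← hg]
      constructor
      · intro h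
        calc g * z * g⁻¹ * (g * y * g⁻¹) = g * (z * y) * g⁻¹ := by group
          _ = _ := by rw [h]; group
      · intro h
        calc z * y = g⁻¹ * (g * z * g⁻¹ * (g * y * g⁻¹)) * g := by group
          _ = y * z := by rw [h]; group
    ext c
    simp only [Qs, Finset.mem_image, hmemA1]
    constructor
    · rintro ⟨z, ⟨hz, hz1⟩, rfl⟩
      exact ⟨g * z * g⁻¹, ⟨(hiff z).1 hz, fun e => hz1 (by simpa [mul_inv_eq_one] using e)⟩,
        (ConjClasses.mk_eq_mk_iff_isConj.2 (isConj_iff.2 ⟨g, rfl⟩)).symm⟩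
    · rintro ⟨z, ⟨hz, hz1⟩, rfl⟩
      refine ⟨g⁻¹ * z * g, ⟨?_, fun e => hz1 ?_⟩, ?_⟩
      · rw [hiff, show g * (g⁻¹ * z * g) * g⁻¹ = z by group]; exact hz
      · rw [show z = g * (g⁻¹ * z * g) * g⁻¹ by group, e]; group
      · exact ConjClasses.mk_eq_mk_iff_isConj.2 (isConj_iff.2 ⟨g, by group⟩)
  have hdisj : ∀ x x', Good x → Good x' → Qs x ≠ Qs x' → Disjoint (Qs x) (Qs x') := by
    intro x x' hx hx' hne
    rw [Finset.disjoint_left]
    intro c hc hc'
    obtain ⟨y, hy, rfl⟩ := Finset.mem_image.1 hc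
    obtain ⟨y', hy', he⟩ := Finset.mem_image.1 hc'
    exact hne (hmeet x x' hx hx' y y' (hmemA1.1 hy).1 (hmemA1.1 hy).2 (hmemA1.1 hy').1
      (ConjClasses.mk_eq_mk_iff_isConj.1 he).symm)
  have hcop : ∀ x x', Good x → Good x' → Qs x ≠ Qs x' → (a x).Coprime (a x') := by
    intro x x' hx hx' hne
    by_contra hco
    obtain ⟨p, hp, hpa, hpb⟩ := Nat.Prime.not_coprime_iff_dvd.1 hco
    haveI := Fact.mk hp
    have key : ∀ z, Good z → p ∣ a z → ∃ P : Sylow p G, (P : Subgroup G) ≤ S.cent z ∧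
        ∃ y ∈ (P : Subgroup G), y ≠ 1 := by
      intro z hz hpz
      obtain ⟨y, hy⟩ := exists_prime_orderOf_dvd_card' (G := S.cent z) p hpz
      have hyo : orderOf (y : G) = p := (Subgroup.orderOf_coe y).trans hy
      have hy1 : (y : G) ≠ 1 := fun e => by rw [e, orderOf_one] at hyo; exact hp.ne_one hyo.symm
      obtain ⟨P, hP⟩ := (show IsPGroup p (Subgroup.zpowers (y : G)) from
        IsPGroup.of_card (n := 1) (by rw [Nat.card_zpowers, hyo, pow_one])).exists_le_sylow
      have hyP : (y : G) ∈ (P : Subgroup G) := hP (Subgroup.mem_zpowers _)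
      haveI : Nontrivial (P : Subgroup G) := ⟨⟨⟨y, hyP⟩, 1, fun e => hy1 (congrArg Subtype.val e)⟩⟩
      haveI := P.isPGroup'.center_nontrivial
      obtain ⟨w, hw⟩ := exists_ne (1 : Subgroup.center (P : Subgroup G))
      have hwc : ∀ v : (P : Subgroup G), (v : G) * (w.1 : G) = (w.1 : G) * v := fun v =>
        congrArg Subtype.val (Subgroup.mem_center_iff.1 w.2 v)
      have hwy : (w.1 : G) ∈ S.cent z := by
        rw [← S.cent_eq hz.1 y.2 hy1]
        exact Subgroup.mem_centralizer_singleton_iff.2 (hwc ⟨y, hyP⟩).symm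
      refine ⟨P, fun v hv => ?_, y, hyP, hy1⟩
      rw [← S.cent_eq hz.1 hwy (fun e => hw (Subtype.ext (Subtype.ext e)))]
      exact Subgroup.mem_centralizer_singleton_iff.2 (hwc ⟨v, hv⟩)
    obtain ⟨P, hP, y, hy, hy1⟩ := key x hx hpa
    obtain ⟨P', hP', -⟩ := key x' hx' hpb
    obtain ⟨g, rfl⟩ := MulAction.exists_smul_eq G P P'
    refine hne (hmeet x x' hx hx' y (g * y * g⁻¹) (hP hy) hy1 (hP' ?_) (isConj_iff.2 ⟨g, rfl⟩))
    rw [Sylow.coe_subgroup_smul]
    exact Subgroup.smul_mem_pointwise_smul y (MulAut.conj g) _ hy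
  -- counting elements
  let w : Finset (ConjClasses G) → ℕ := fun T => (Finset.univ.filter fun g => CL g ∈ T).card
  have hw : ∀ x, Good x → w (Qs x) * a x = (Qs x).card * Nat.card G := by
    intro x hx
    have h1 : w (Qs x) = ∑ c ∈ Qs x, (Finset.univ.filter fun g => CL g = c).card := by
      simp only [w]
      rw [← Finset.card_biUnion]
      · congr 1
        ext g
        simp
      · intro c _ c' _ hne
        simp only [Function.onFun, Finset.disjoint_left, Finset.mem_filter]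
        exact fun g h h' => hne (h.2.symm.trans h'.2)
    rw [h1, Finset.sum_mul, Finset.sum_congr rfl (g := fun _ => Nat.card G), Finset.sum_const, smul_eq_mul]
    intro c hc
    obtain ⟨y, hy, rfl⟩ := Finset.mem_image.1 hc
    have h2 := Char.card_conjugates_mul_card_centralizer y
    rw [show Subgroup.centralizer ({y} : Set G) = S.cent x from S.cent_eq hx.1 (hmemA1.1 hy).1 (hmemA1.1 hy).2] at h2
    rw [← h2]
    congr 1
    rw [← Fintype.card_subtype, ← Nat.card_eq_fintype_card]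
    exact Nat.card_congr (Equiv.subtypeEquivRight fun g => by
      rw [Set.mem_ofPred_eq, isConj_comm]; simp [CL, ConjClasses.mk_eq_mk_iff_isConj])
  have hwle : ∀ T, T ⊆ Q → 2 * w T < Nat.card G := by
    intro T hT
    refine lt_of_le_of_lt (Nat.mul_le_mul_left 2 ?_) S.two_mul_fpf
    simp only [w]
    rw [Nat.card_eq_fintype_card, Fintype.card_subtype]
    refine Finset.card_le_card fun g hg => ?_
    simp only [Finset.mem_filter, Finset.mem_univ, true_and] at hg ⊢
    exact fun p => (Finset.mem_filter.1 (hT hg)).2 g rfl p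
  have hwadd : ∀ T T', Disjoint T T' → w (T ∪ T') = w T + w T' := by
    intro T T' hd
    simp only [w]
    rw [← Finset.card_union_of_disjoint]
    · congr 1; ext g; simp
    · simp only [Finset.disjoint_left, Finset.mem_filter]
      exact fun g h h' => Finset.disjoint_left.1 hd h.2 h'.2
  have hG0 : 0 < Nat.card G := Nat.card_pos
  have hpair : ∀ x x', Good x → Good x' → Qs x ≠ Qs x' →
      2 * ((Qs x).card * a x' + (Qs x').card * a x) < a x * a x' := by
    intro x x' hx hx' hne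
    have h1 := hwle _ (Finset.union_subset (hQsub x hx) (hQsub x' hx'))
    rw [hwadd _ _ (hdisj x x' hx hx' hne)] at h1
    refine Nat.lt_of_mul_lt_mul_left (a := Nat.card G) ?_
    have e1 := hw x hx
    have e2 := hw x' hx'
    have hpos : 0 < a x * a x' := Nat.mul_pos Nat.card_pos Nat.card_pos
    calc Nat.card G * (2 * ((Qs x).card * a x' + (Qs x').card * a x))
        = 2 * (w (Qs x) + w (Qs x')) * (a x * a x') := by
          calc _ = 2 * (((Qs x).card * Nat.card G) * a x' + ((Qs x').card * Nat.card G) * a x) := by ring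
            _ = _ := by rw [← e1, ← e2]; ring
      _ < Nat.card G * (a x * a x') := Nat.mul_lt_mul_of_pos_right h1 hpos
  have hq4 : 4 ≤ S.q := by rw [q]; omega
  have hqeven : Even S.q := ⟨Q.card, by omega⟩
  have h2 : ∀ x, Good x → (Qs x).card * 2 + 1 ≠ a x := by
    intro x hx ha
    by_cases hall : Qs x = Q
    · have haq : a x = S.q + 1 := by rw [← ha, hall]; omega
      have h3 := S.cent_dvd hx.1 hx.2
      rw [show Nat.card (S.cent x) = S.q + 1 from haq, hh] at h3
      obtain ⟨u, hu⟩ : ∃ u, S.q = u + 1 := ⟨S.e, rfl⟩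
      have h4 : S.q + 1 ∣ 2 := by
        have e1 : S.q ^ 2 + 1 = (S.q + 1) * (S.q - 1) + 2 := by rw [hu, Nat.add_sub_cancel]; ring
        rw [e1] at h3
        exact (Nat.dvd_add_right (dvd_mul_right _ _)).1 h3
      have := Nat.le_of_dvd (by norm_num) h4
      omega
    · obtain ⟨c, hc, hcn⟩ := Finset.exists_of_ssubset ((hQsub x hx).lt_of_ne hall)
      obtain ⟨y, hy, hyf, rfl⟩ := hrep c hc
      have hne : Qs x ≠ Qs y := fun e => hcn (e ▸ hself y ⟨hy, hyf⟩)
      have h3 := hpair x y hx ⟨hy, hyf⟩ hne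
      obtain ⟨l, hl, hly⟩ := hQscard y ⟨hy, hyf⟩
      have hk : 1 ≤ (Qs x).card := Finset.card_pos.2 ⟨_, hself x hx⟩
      have hk' : 1 ≤ (Qs y).card := Finset.card_pos.2 ⟨_, hself y ⟨hy, hyf⟩⟩
      rw [← ha, ← hly] at h3
      rcases hl with rfl | rfl <;> nlinarith
  have h4 : ∀ x, Good x → (Qs x).card * 4 + 1 = a x := by
    intro x hx
    obtain ⟨l, hl | hl, hlx⟩ := hQscard x hx
    · exact absurd (hl ▸ hlx) (h2 x hx)
    · exact hl ▸ hlx
  -- exactly two centralisers
  obtain ⟨c, hc⟩ := Finset.card_pos.1 (show 0 < Q.card by omega)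
  obtain ⟨x, hx, hxf, -⟩ := hrep c hc
  have gx : Good x := ⟨hx, hxf⟩
  have hne : Qs x ≠ Q := by
    intro e
    have ha : a x = 2 * S.q + 1 := by rw [← h4 x gx, e]; omega
    have h3 := S.cent_dvd hx hxf
    rw [show Nat.card (S.cent x) = 2 * S.q + 1 from ha, hh] at h3
    have h5 : 2 * S.q + 1 ∣ 5 := by
      obtain ⟨u, hu⟩ : ∃ u, S.q = u + 1 := ⟨S.e, rfl⟩
      have e1 : (S.q ^ 2 + 1) * 4 = (2 * S.q + 1) * (2 * S.q - 1) + 5 := by
        rw [hu, show 2 * (u + 1) - 1 = 2 * u + 1 by omega]; ring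
      have h6 := h3.mul_right 4
      rw [e1] at h6
      exact (Nat.dvd_add_right (dvd_mul_right _ _)).1 h6
    have := Nat.le_of_dvd (by norm_num) h5
    omega
  obtain ⟨c', hc', hcn⟩ := Finset.exists_of_ssubset ((hQsub x gx).lt_of_ne hne)
  obtain ⟨x', hx', hx'f, rfl⟩ := hrep c' hc'
  have gx' : Good x' := ⟨hx', hx'f⟩
  have hne' : Qs x ≠ Qs x' := fun e => hcn (e ▸ hself x' gx')
  have hd := hdisj x x' gx gx' hne'
  have hall : Qs x ∪ Qs x' = Q := by
    by_contra h
    obtain ⟨c'', hc'', hcn'⟩ := Finset.exists_of_ssubset ((Finset.union_subset (hQsub x gx) (hQsub x' gx')).lt_of_ne h)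
    obtain ⟨x'', hx'', hx''f, rfl⟩ := hrep c'' hc''
    have gx'' : Good x'' := ⟨hx'', hx''f⟩
    have n1 : Qs x ≠ Qs x'' := fun e => hcn' (Finset.mem_union_left _ (e ▸ hself x'' gx''))
    have n2 : Qs x' ≠ Qs x'' := fun e => hcn' (Finset.mem_union_right _ (e ▸ hself x'' gx''))
    have hd3 : Disjoint (Qs x ∪ Qs x') (Qs x'') :=
      Finset.disjoint_union_left.2 ⟨hdisj x x'' gx gx'' n1, hdisj x' x'' gx' gx'' n2⟩
    have h5 := hwle _ (Finset.union_subset (Finset.union_subset (hQsub x gx) (hQsub x' gx')) (hQsub x'' gx''))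
    rw [hwadd _ _ hd3, hwadd _ _ hd] at h5
    have hb : ∀ z, Good z → Nat.card G ≤ 5 * w (Qs z) := by
      intro z hz
      have e1 := hw z hz
      rw [← h4 z hz] at e1
      have hk : 1 ≤ (Qs z).card := Finset.card_pos.2 ⟨_, hself z hz⟩
      have h6 : (Qs z).card * 4 + 1 ≤ (Qs z).card * 5 := by omega
      have h7 := Nat.mul_le_mul_left (w (Qs z)) h6
      rw [e1] at h7
      refine Nat.le_of_mul_le_mul_left ?_ (show 0 < (Qs z).card from hk)
      calc (Qs z).card * Nat.card G ≤ w (Qs z) * ((Qs z).card * 5) := h7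
        _ = _ := by ring
    have := hb x gx; have := hb x' gx'; have := hb x'' gx''
    omega
  refine odd_exponent (ha_odd x gx) (ha_odd x' gx') (hcop x x' gx gx' hne') (ha_dvd x gx) (ha_dvd x' gx') ?_
  rw [← h4 x gx, ← h4 x' gx', ← hm]
  have := Finset.card_union_of_disjoint hd
  rw [hall] at this
  omega

end Setup

end Cfsg.Agent.SuzukiZass
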