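/-
Simple Zassenhaus groups with a non-abelian 2-group as point kernel.

* `Setup.structure_main` : the kernel has order `q²`, `q = 2^n`, `n > 1` odd
* `Setup.isSuzukiOrder` : the group has Suzuki order
* `setup_of_reg` : a regular normal subgroup of the point stabiliser gives the data
* `sharp_psl2` : a sharply triply transitive simple group of degree `2^f + 1` is `PSL₂(2^f)`
-/
import Cfsg.Agent.Lib.SuzukiZass.Cube
import Cfsg.Agent.Lib.SuzukiZass.Square
import Cfsg.Agent.Lib.PSL2.PGL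
import Cfsg.Agent.S0727
import Cfsg.Agent.EqLemmas

set_option autoImplicit false
set_option linter.style.haveILetI false

open MulAction Cfsg.Agent.Zassenhaus

namespace Cfsg.Agent.SuzukiZass

variable {G Ω : Type*} [Group G] [Finite G] [MulAction G Ω] [Finite Ω]

theorem Setup.structure_main [IsSimpleGroup G] (S : Setup G Ω) :
    ∃ n : ℕ, Odd n ∧ 1 < n ∧ S.q = 2 ^ n ∧ S.h = S.q ^ 2 := by
  obtain ⟨m, hm2, hm⟩ := S.exists_q
  have hsq : S.h = S.q ^ 2 := (S.card_cases).resolve_right (fun h => not_cube S h)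
  exact ⟨m, S.exponent_odd hsq hm, by omega, hm, hsq⟩

theorem Setup.isSuzukiOrder [IsSimpleGroup G] (S : Setup G Ω) : Cfsg.IsSuzuki G := by
  obtain ⟨n, ⟨k, rfl⟩, hn1, hq, hh⟩ := S.structure_main
  refine ⟨inferInstance, k, by omega, ?_⟩
  have he : S.e = 2 ^ (2 * k + 1) - 1 := by rw [← hq, Setup.q, Nat.add_sub_cancel]
  rw [S.card_G, hh, he, hq]
  ring

theorem setup_of_reg (hZ : Cfsg.IsZassenhausGroup G Ω) {a b : Ω} (hab : a ≠ b) (U : Subgroup G)
    (hUa : U ≤ stabilizer G a) (hUn : ∀ t ∈ stabilizer G a, ∀ u ∈ U, t * u * t⁻¹ ∈ U)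
    (hreg : ∀ c d : Ω, c ≠ a → d ≠ a → ∃! u : U, (u : G) • c = d)
    (hU2 : IsPGroup 2 U) (hna : ∃ u ∈ U, ∃ v ∈ U, u * v ≠ v * u) :
    ∃ S : Setup G Ω, S.a = a ∧ S.b = b ∧ S.U = U := by
  classical
  have := Fintype.ofFinite Ω
  let φ : U → {y : Ω // y ≠ a} := fun u => ⟨(u : G) • b, fun h => hab.symm
    (smul_left_cancel (u : G) (h.trans (show (u : G) • a = a from hUa u.2).symm))⟩
  have hφ : Function.Bijective φ := by
    constructor
    · intro u v h
      have h' : (u : G) • b = (v : G) • b := congrArg Subtype.val h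
      exact (hreg b _ hab.symm (φ u).2).unique rfl h'.symm
    · intro y
      obtain ⟨u, hu, -⟩ := hreg b y.1 hab.symm y.2
      exact ⟨u, Subtype.ext hu⟩
  have hcard : Nat.card U = Nat.card Ω - 1 := by
    rw [Nat.card_eq_of_bijective φ hφ, Nat.card_eq_fintype_card, Nat.card_eq_fintype_card,
      Fintype.card_subtype_compl, Fintype.card_subtype_eq]
  have hfix : ∀ u ∈ U, u ≠ 1 → ∀ c : Ω, u • c = c → c = a := by
    intro u hu hu1 c hc
    by_contra hca
    have := (hreg c c hca hca).unique (y₁ := (⟨u, hu⟩ : U)) (y₂ := 1) hc (one_smul G c)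
    exact hu1 (congrArg Subtype.val this)
  exact ⟨⟨hZ, a, b, hab, U, hUa, hUn, hcard, hfix, hU2, hna⟩, rfl, rfl, rfl⟩

theorem pgl_equiv_psl (F : Type) [Field F] [Fintype F] (h2 : ringChar F = 2) :
    Nonempty (Matrix.ProjGenLinGroup (Fin 2) F ≃* Matrix.ProjectiveSpecialLinearGroup (Fin 2) F) := by
  refine ⟨(MulEquiv.ofBijective Matrix.ProjectiveSpecialLinearGroup.toPGL
    ⟨Matrix.ProjectiveSpecialLinearGroup.toPGL_injective, fun x => ?_⟩).symm⟩
  obtain ⟨u, rfl⟩ := Matrix.ProjGenLinGroup.mk_surjective x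
  exact (PSL2.mk_mem_range_iff u).2 (FiniteField.isSquare_of_char_two h2 _)

theorem sharp_psl2 [FaithfulSMul G Ω] {f : ℕ} (hf : 1 ≤ f) (hcard : Nat.card Ω = 2 ^ f + 1)
    (h3 : MulAction.IsMultiplyPretransitive G Ω 3) (hsharp : ∀ x : Fin 3 ↪ Ω, stabilizer G x = ⊥) :
    ∃ (F : Type) (_ : Field F) (_ : Fintype F),
      Nonempty (G ≃* Matrix.ProjectiveSpecialLinearGroup (Fin 2) F) := by
  classical
  have := Fintype.ofFinite Ω
  let Φ := MulAction.toPermHom G Ω
  have hinj : Function.Injective Φ := MulAction.toPerm_injective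
  haveI := h3
  have h3' : MulAction.IsMultiplyPretransitive Φ.range Ω 3 := by
    refine ⟨fun x y => ?_⟩
    obtain ⟨g, hg⟩ := MulAction.exists_smul_eq G x y
    exact ⟨⟨Φ g, g, rfl⟩, Function.Embedding.ext fun i => by rw [← hg]; rfl⟩
  have hsharp' : ∀ x : Fin 3 ↪ Ω, stabilizer Φ.range x = ⊥ := by
    intro x
    rw [Subgroup.eq_bot_iff_forall]
    rintro ⟨_, g, rfl⟩ hg
    have hg' : g ∈ stabilizer G x := by
      rw [mem_stabilizer_iff] at hg ⊢
      exact Function.Embedding.ext fun i => congrArg (fun y : Fin 3 ↪ Ω => y i) hg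
    rw [hsharp x, Subgroup.mem_bot] at hg'
    exact Subtype.ext (by rw [hg']; exact map_one Φ)
  obtain ⟨F, iF, iT, hF, ⟨e⟩⟩ :=
    S0727.result hf (by rwa [← Nat.card_eq_fintype_card]) Φ.range h3' hsharp'
  haveI := Fact.mk Nat.prime_two
  haveI : CharP F 2 := charP_of_card_eq_prime_pow hF
  obtain ⟨e2⟩ := pgl_equiv_psl F (ringChar.eq F 2)
  exact ⟨F, iF, iT, ⟨((MonoidHom.ofInjective hinj).trans e).trans e2⟩⟩

end Cfsg.Agent.SuzukiZass
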